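/-
A (B,N)-pair from rank one data.

* `RankOneData` : for each `s ∈ S` a set `X s ⊆ B` and a subgroup `P s` with `P s ⊆ B ∪ X s s B`
* `RankOneData.pair` : the (B,N)-pair
* `exists_conj_not_mem` : a right descent of `w` moves `X s` out of `B`
-/
import Cfsg.Agent.Lib.BN.Steinberg

set_option autoImplicit false

namespace Cfsg.Agent.UnitaryBN

/-- The hypotheses. -/
structure RankOneData (G : Type*) [Group G] where
  B : Subgroup G
  N : Subgroup G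
  S : Set G
  X : G → Set G
  P : G → Subgroup G
  sup_eq_top : B ⊔ N = ⊤
  conj_mem : ∀ n ∈ N, ∀ t ∈ B ⊓ N, n * t * n⁻¹ ∈ B
  subset : S ⊆ (N : Set G)
  sq_mem : ∀ s ∈ S, s * s ∈ B
  inj : ∀ s ∈ S, ∀ s' ∈ S, s⁻¹ * s' ∈ B → s = s'
  closure_sup : Subgroup.closure S ⊔ (B ⊓ N) = N
  X_le : ∀ s ∈ S, ∀ x ∈ X s, x ∈ B
  B_le : ∀ s ∈ S, B ≤ P s
  mem_P : ∀ s ∈ S, s ∈ P s
  key : ∀ s ∈ S, ∀ g ∈ P s, g ∈ B ∨ ∃ x ∈ X s, ∃ c ∈ B, g = x * s * c
  dich : ∀ s ∈ S, ∀ n ∈ N, (∀ x ∈ X s, n⁻¹ * x * n ∈ B) ∨ (∀ x ∈ X s, (s * n)⁻¹ * x * (s * n) ∈ B)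
  moved : ∀ s ∈ S, ∃ x ∈ X s, s * x * s⁻¹ ∉ B

namespace RankOneData

variable {G : Type*} [Group G] (D : RankOneData G)

theorem not_mem {s : G} (hs : s ∈ D.S) : s ∉ D.B := fun h => by
  obtain ⟨x, hx, hne⟩ := D.moved s hs
  exact hne (mul_mem (mul_mem h (D.X_le s hs x hx)) (inv_mem h))

/-- `b` is a product of an element of `B ∩ sBs⁻¹` and an element of `(X s)⁻¹`. -/
theorem exists_split {s b : G} (hs : s ∈ D.S) (hb : b ∈ D.B) :
    ∃ d ∈ D.B, s * d * s⁻¹ ∈ D.B ∧ s⁻¹ * d * s ∈ D.B ∧ ∃ x ∈ D.X s, b = d * x⁻¹ := by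
  have hP : b⁻¹ * s ∈ D.P s := mul_mem (D.B_le s hs (inv_mem hb)) (D.mem_P s hs)
  rcases D.key s hs _ hP with h | ⟨x, hx, c, hc, e⟩
  · exact absurd (by simpa using mul_mem hb h) (D.not_mem hs)
  have hd : b * x ∈ D.B := mul_mem hb (D.X_le s hs x hx)
  have h1 : s⁻¹ * (b * x) * s = c⁻¹ := by
    have e' : b⁻¹ = x * s * c * s⁻¹ := by rw [← e]; group
    rw [show b = (b⁻¹)⁻¹ from (inv_inv b).symm, e']
    group
  refine ⟨b * x, hd, ?_, by rw [h1]; exact inv_mem hc, x, hx, by group⟩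
  have hsq := D.sq_mem s hs
  rw [show s * (b * x) * s⁻¹ = s * s * (s⁻¹ * (b * x) * s) * (s * s)⁻¹ by group, h1]
  exact mul_mem (mul_mem hsq (inv_mem hc)) (inv_mem hsq)

theorem mul_mem_union {s n b : G} (hs : s ∈ D.S) (hn : n ∈ D.N) (hb : b ∈ D.B) :
    s * b * n ∈ DoubleCoset.doubleCoset (s * n) (D.B : Set G) D.B ∪
      DoubleCoset.doubleCoset n (D.B : Set G) D.B := by
  obtain ⟨d, -, hd, -, x, hx, rfl⟩ := D.exists_split hs hb
  rcases D.dich s hs n hn with h | h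
  · left
    refine DoubleCoset.mem_doubleCoset.2 ⟨s * d * s⁻¹, hd, n⁻¹ * x⁻¹ * n, ?_, by group⟩
    simpa [mul_assoc] using inv_mem (h x hx)
  · have hg : s * x⁻¹ * s⁻¹ ∈ D.P s :=
      mul_mem (mul_mem (D.mem_P s hs) (D.B_le s hs (inv_mem (D.X_le s hs x hx)))) (inv_mem (D.mem_P s hs))
    rcases D.key s hs _ hg with hB | ⟨x', hx', c, hc, e⟩
    · left
      exact DoubleCoset.mem_doubleCoset.2 ⟨s * d * s⁻¹ * (s * x⁻¹ * s⁻¹), mul_mem hd hB, 1, one_mem _, by group⟩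
    · right
      obtain ⟨d', -, hd', -, x'', hx'', rfl⟩ := D.exists_split hs hc
      refine DoubleCoset.mem_doubleCoset.2 ⟨s * d * s⁻¹ * x' * (s * d' * s⁻¹) * (s * s),
        mul_mem (mul_mem (mul_mem hd (D.X_le s hs x' hx')) hd') (D.sq_mem s hs),
        n⁻¹ * (s⁻¹ * x''⁻¹ * s) * n, by simpa [mul_assoc] using inv_mem (h x'' hx''), ?_⟩
      rw [show s * (d * x⁻¹) * n = s * d * s⁻¹ * (s * x⁻¹ * s⁻¹) * s * n by group, e]
      group

/-- The (B,N)-pair. -/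
def pair : Cfsg.BNPair G where
  B := D.B
  N := D.N
  S := D.S
  sup_eq_top := D.sup_eq_top
  conj_mem := D.conj_mem
  subset := D.subset
  sq_mem := D.sq_mem
  inj := D.inj
  closure_sup := D.closure_sup
  mul_mem_union _ hs _ hn _ hb := D.mul_mem_union hs hn hb
  conj_ne s hs h := by
    obtain ⟨x, hx, hne⟩ := D.moved s hs
    have h1 : s * x * s ∈ (D.B : Set G) := h.subset ⟨x, D.X_le s hs x hx, rfl⟩
    have h2 := mul_mem (show s * x * s ∈ D.B from h1) (inv_mem (D.sq_mem s hs))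
    exact hne (by convert h2 using 1; group)

/-- At a right descent `s` of the class of `n` some element of `X s` leaves `B`. -/
theorem exists_conj_not_mem {s n : G} (hs : s ∈ D.S) (hn : n ∈ D.N)
    (hd : BN.RightDesc (BN.sigma D.pair) ⟨s, hs⟩ (BN.wOf D.pair (n := n) hn)) :
    ∃ x ∈ D.X s, n * x * n⁻¹ ∉ D.B := by
  by_contra hall
  push Not at hall
  set P := D.pair
  set s' : P.S := ⟨s, hs⟩
  set w := BN.wOf P (n := n) hn
  have hlt : BN.len P (BN.sigma P s' * w⁻¹) < BN.len P w⁻¹ := ((BN.hasExchange P).rightDesc_iff s' w).1 hd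
  obtain ⟨g, y, hg, hy, hgy⟩ := BN.descent P s' hlt
  have hy' := BN.inv_mem_C P hy
  have hgy' := BN.inv_mem_C P hgy
  have hg' := BN.inv_mem_C P hg
  rw [inv_inv] at hy' hgy'
  rw [BN.sigma_inv'] at hg'
  -- the product of the two cosets lies in the coset of `w σ`
  have hprod : ∀ a ∈ BN.C P w, ∀ b ∈ BN.C P (BN.sigma P s'), a * b ∈ BN.C P (w * BN.sigma P s') := by
    intro a ha b hb
    rw [BN.C_wOf P hn, DoubleCoset.mem_doubleCoset] at ha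
    obtain ⟨a₁, ha₁, a₂, ha₂, rfl⟩ := ha
    rw [BN.sigma, BN.C_mk, DoubleCoset.mem_doubleCoset] at hb
    obtain ⟨b₁, hb₁, b₂, hb₂, rfl⟩ := hb
    obtain ⟨d, hdB, -, hd2, x, hx, e⟩ := D.exists_split hs (inv_mem (mul_mem (show a₂ ∈ D.B from ha₂) hb₁))
    have e' : a₂ * b₁ = x * d⁻¹ := by rw [show a₂ * b₁ = ((a₂ * b₁)⁻¹)⁻¹ by group, e]; group
    refine (show w * BN.sigma P s' = BN.wOf P (mul_mem hn (P.subset hs)) from rfl) ▸ ?_
    rw [BN.C_wOf, DoubleCoset.mem_doubleCoset]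
    refine ⟨a₁ * (n * x * n⁻¹), mul_mem (show a₁ ∈ D.B from ha₁) (hall x hx), (s⁻¹ * d⁻¹ * s) * b₂,
      mul_mem ?_ (show b₂ ∈ D.B from hb₂), ?_⟩
    · show _ ∈ D.B
      simpa [mul_assoc] using inv_mem hd2
    · show a₁ * n * a₂ * (b₁ * s * b₂) = _
      rw [show a₁ * n * a₂ * (b₁ * s * b₂) = a₁ * n * (a₂ * b₁) * s * b₂ by group, e']
      group
  have h1 := hprod _ hy' _ hg'
  rw [← mul_inv_rev] at h1
  exact BN.sigma_ne_one P s' (mul_eq_left.1 (BN.C_unique P h1 hgy'))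

end RankOneData

end Cfsg.Agent.UnitaryBN
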