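/-
Monomial elements of SU_n(q) for a hyperbolic frame.

* `vec`, `pos` : the frame vectors and their order
* `Sends g a b`, `mono`, `torus` : monomial elements
* `pres K` : the stabiliser of the flag members with index in `K`; `mem_borel_iff`
* `mono_inf_borel` : monomial elements of the Borel subgroup lie in the torus
* `eich_mem_borel_pair`, `eich_mem_borel_mid` : Eichler elements in the Borel subgroup
-/
import Cfsg.Agent.Lib.Linear.UnitaryBorel

set_option autoImplicit false
set_option linter.unusedSectionVars false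

namespace Cfsg.Agent.UnitaryBN

open scoped Matrix
open Cfsg.Agent.Unitary Cfsg.Agent.UFus

variable {F : Type*} [Field F] [Fintype F] {q n m : ℕ}

/-- Labels of the frame vectors. -/
abbrev Ix (m : ℕ) := Fin m ⊕ Fin m

/-- The frame vectors. -/
def vec (Φ : Frame n F q m) : Ix m → (Fin n → F) := Sum.elim Φ.e Φ.f

/-- The position in the flag. -/
def pos : Ix m → ℕ := Sum.elim (fun i => i.val) fun i => 2 * m - i.val

theorem pos_injective : Function.Injective (pos : Ix m → ℕ) := by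
  rintro (i | i) (j | j) h <;> simp only [pos, Sum.elim_inl, Sum.elim_inr] at h
  · rw [Fin.ext h]
  · omega
  · omega
  · rw [show i = j from Fin.ext (by omega)]

variable (hF : Fintype.card F = q ^ 2) (Φ : Frame n F q m)
include hF

theorem herm_vec (a b : Ix m) :
    Cfsg.hermForm n F q (vec Φ a) (vec Φ b) = if b = a.swap then 1 else 0 := by
  rcases a with i | i <;> rcases b with j | j <;>
    simp only [vec, Sum.elim_inl, Sum.elim_inr, Φ.ee, Φ.ef, Φ.ff, Φ.fe hF, Sum.swap_inl, Sum.swap_inr,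
      Sum.inl.injEq, Sum.inr.injEq, reduceCtorEq, if_false]
  · exact if_congr eq_comm rfl rfl
  · exact if_congr eq_comm rfl rfl

theorem herm_vec_self_swap (a : Ix m) : Cfsg.hermForm n F q (vec Φ a) (vec Φ a.swap) = 1 := by
  rw [herm_vec hF Φ, if_pos rfl]

theorem herm_vec_u (a : Ix m) : Cfsg.hermForm n F q (vec Φ a) Φ.u = 0 := by
  rcases a with i | i
  · exact Φ.eu i
  · exact Φ.fu i

theorem herm_u_vec (a : Ix m) : Cfsg.hermForm n F q Φ.u (vec Φ a) = 0 :=
  ((hermForm_isHerm hF n).eq_zero_symm hF).1 (herm_vec_u hF Φ a)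

theorem vec_ne_zero (a : Ix m) : vec Φ a ≠ 0 := fun h => by
  have := herm_vec_self_swap hF Φ a
  rw [h, (hermForm_isHerm hF n).zero_left] at this
  exact zero_ne_one this

/-- A vector orthogonal to every frame vector is a multiple of `u`. -/
theorem eq_smul_u {x : Fin n → F} (h : ∀ a, Cfsg.hermForm n F q x (vec Φ a) = 0) :
    x = Cfsg.hermForm n F q x Φ.u • Φ.u :=
  Φ.rest x (fun i => h (.inl i)) fun i => h (.inr i)

omit hF in
/-- `g` maps the line of `a` to the line of `b`. -/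
def Sends (Φ : Frame n F q m) (g : Cfsg.SU n F q) (a b : Ix m) : Prop :=
  ∃ l : F, suAct g (vec Φ a) = l • vec Φ b

variable {hF Φ}

theorem Sends.ne_zero {g : Cfsg.SU n F q} {a b : Ix m} {l : F} (h : suAct g (vec Φ a) = l • vec Φ b) :
    l ≠ 0 := by
  rintro rfl
  have := herm_vec_self_swap hF Φ a
  rw [← suAct_herm g, h, zero_smul, (hermForm_isHerm hF n).zero_left] at this
  exact zero_ne_one this

theorem Sends.trans {g h : Cfsg.SU n F q} {a b c : Ix m} (h₁ : Sends Φ h a b) (h₂ : Sends Φ g b c) :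
    Sends Φ (g * h) a c := by
  obtain ⟨l, hl⟩ := h₁
  obtain ⟨k, hk⟩ := h₂
  exact ⟨l * k, by rw [suAct_mul, hl, suAct_smul, hk, smul_smul]⟩

theorem Sends.one (a : Ix m) : Sends Φ 1 a a := ⟨1, by rw [suAct_one, one_smul]⟩

theorem Sends.symm {g : Cfsg.SU n F q} {a b : Ix m} (h : Sends Φ g a b) : Sends Φ g⁻¹ b a := by
  obtain ⟨l, hl⟩ := h
  refine ⟨l⁻¹, ?_⟩
  have h1 := congrArg (suAct g⁻¹) hl
  rw [suAct_inv_suAct, suAct_smul] at h1
  rw [h1, smul_smul, inv_mul_cancel₀ (Sends.ne_zero (hF := hF) hl), one_smul]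

theorem Sends.unique {g : Cfsg.SU n F q} {a b b' : Ix m} (h : Sends Φ g a b) (h' : Sends Φ g a b') :
    b = b' := by
  obtain ⟨l, hl⟩ := h
  obtain ⟨l', hl'⟩ := h'
  by_contra hne
  have e := congrArg (fun x => Cfsg.hermForm n F q x (vec Φ b.swap)) (hl.symm.trans hl')
  simp only [(hermForm_isHerm hF n).smul_left, herm_vec hF Φ] at e
  rw [if_pos trivial, if_neg (fun h => hne (by simpa using congrArg Sum.swap h)), mul_one, mul_zero] at e
  exact Sends.ne_zero (hF := hF) hl e

theorem Sends.injective {g : Cfsg.SU n F q} {a a' b : Ix m} (h : Sends Φ g a b) (h' : Sends Φ g a' b) :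
    a = a' := Sends.unique (hF := hF) (Sends.symm (hF := hF) h) (Sends.symm (hF := hF) h')

variable (hF Φ)

/-- Monomial elements. -/
def mono : Subgroup (Cfsg.SU n F q) where
  carrier := {g | ∀ a, ∃ b, Sends Φ g a b}
  one_mem' a := ⟨a, Sends.one (hF := hF) a⟩
  mul_mem' {g h} hg hh a := by
    obtain ⟨b, hb⟩ := hh a
    obtain ⟨c, hc⟩ := hg b
    exact ⟨c, hb.trans (hF := hF) hc⟩
  inv_mem' {g} hg a := by
    choose π hπ using hg
    have hinj : Function.Injective π := fun x y e =>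
      Sends.injective (hF := hF) (hπ x) (e.symm ▸ hπ y : Sends Φ g y (π x))
    obtain ⟨b, hb⟩ := (Finite.injective_iff_surjective.1 hinj) a
    exact ⟨b, (hb ▸ hπ b : Sends Φ g b a).symm (hF := hF)⟩

theorem sends_swap {g : Cfsg.SU n F q} (hg : g ∈ mono hF Φ) {a b : Ix m} (h : Sends Φ g a b) :
    Sends Φ g a.swap b.swap := by
  obtain ⟨c, hc⟩ := hg a.swap
  suffices c = b.swap by rwa [this] at hc
  obtain ⟨l, hl⟩ := h
  obtain ⟨k, hk⟩ := hc
  by_contra hne
  have e := suAct_herm g (vec Φ a) (vec Φ a.swap)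
  rw [hl, hk, herm_vec_self_swap hF Φ, (hermForm_isHerm hF n).smul_left, (hermForm_isHerm hF n).smul_right,
    herm_vec hF Φ, if_neg hne, mul_zero, mul_zero] at e
  exact zero_ne_one e

theorem mono_u {g : Cfsg.SU n F q} (hg : g ∈ mono hF Φ) :
    suAct g Φ.u = Cfsg.hermForm n F q (suAct g Φ.u) Φ.u • Φ.u := by
  refine eq_smul_u hF Φ fun a => ?_
  obtain ⟨b, hb⟩ := (mono hF Φ).inv_mem hg a
  obtain ⟨l, hl⟩ := hb
  rw [← suAct_herm g⁻¹, suAct_inv_suAct, hl, (hermForm_isHerm hF n).smul_right, herm_u_vec hF Φ, mul_zero]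

/-- The torus. -/
def torus : Subgroup (Cfsg.SU n F q) where
  carrier := {g | ∀ a, Sends Φ g a a}
  one_mem' a := Sends.one (hF := hF) a
  mul_mem' {g h} hg hh a := (hh a).trans (hF := hF) (hg a)
  inv_mem' {g} hg a := (hg a).symm (hF := hF)

theorem torus_le_mono : torus hF Φ ≤ mono hF Φ := fun _ hg a => ⟨a, hg a⟩

theorem torus_normalized {g t : Cfsg.SU n F q} (hg : g ∈ mono hF Φ) (ht : t ∈ torus hF Φ) :
    g * t * g⁻¹ ∈ torus hF Φ := fun a => by
  obtain ⟨b, hb⟩ := (mono hF Φ).inv_mem hg a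
  have hg' : Sends Φ g b a := by simpa using hb.symm (hF := hF)
  exact hb.trans (hF := hF) ((ht b).trans (hF := hF) hg')

/-- The elements preserving the flag members with index in `K`. -/
def pres (K : Set ℕ) : Subgroup (Cfsg.SU n F q) where
  carrier := {g | ∀ k ∈ K, ∀ x ∈ Φ.low hF k, suAct g x ∈ Φ.low hF k}
  one_mem' k _ x hx := by rwa [suAct_one]
  mul_mem' {g h} hg hh k hk x hx := by rw [suAct_mul]; exact hg k hk _ (hh k hk x hx)
  inv_mem' {g} hg k hk x hx := by
    let f : Φ.low hF k → Φ.low hF k := fun y => ⟨suAct g y, hg k hk y y.2⟩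
    have hinj : Function.Injective f := fun y z h => Subtype.ext (by
      have := congrArg (fun w : Φ.low hF k => suAct g⁻¹ (w : Fin n → F)) h
      simpa [f, suAct_inv_suAct] using this)
    obtain ⟨y, hy⟩ := (Finite.injective_iff_surjective.1 hinj) ⟨x, hx⟩
    rw [show x = suAct g y from (congrArg Subtype.val hy).symm, suAct_inv_suAct]
    exact y.2

theorem mem_pres_of_e {K : Set ℕ} {g : Cfsg.SU n F q}
    (h : ∀ k ∈ K, ∀ i : Fin m, i.val < k → suAct g (Φ.e i) ∈ Φ.low hF k) : g ∈ pres hF Φ K :=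
  fun k hk _ hx => Φ.mulVec_low hF (h k hk) hx

theorem mem_borel_iff {g : Cfsg.SU n F q} : g ∈ Φ.borel hF ↔ g ∈ pres hF Φ {k | k ≤ m} := by
  refine ⟨fun hg k _ x hx => Φ.bor_low hF hg hx,
    fun hg => ⟨fun i => hg _ i.isLt _ (Φ.e_mem_low hF (Nat.lt_succ_self _)), fun i => ?_⟩⟩
  rw [← suAct_herm g⁻¹, suAct_inv_suAct]
  exact Φ.herm_low hF ((pres hF Φ _).inv_mem hg m (show m ≤ m from le_rfl) _ (Φ.e_mem_low hF i.isLt)) fun l _ => Φ.ue hF l

theorem vec_mem_low_iff {a : Ix m} {k : ℕ} (hk : k ≤ m) : vec Φ a ∈ Φ.low hF k ↔ pos a < k := by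
  refine ⟨fun h => ?_, fun h => ?_⟩
  · rcases a with i | i
    · by_contra hlt
      have := h.2.2 i (by simpa [pos] using hlt)
      rw [show vec Φ (Sum.inl i) = Φ.e i from rfl, Φ.ef, if_pos rfl] at this
      exact one_ne_zero this
    · have := h.1 i
      rw [show vec Φ (Sum.inr i) = Φ.f i from rfl, Φ.fe hF, if_pos rfl] at this
      exact absurd this one_ne_zero
  · rcases a with i | i
    · exact Φ.e_mem_low hF (by simpa [pos] using h)
    · simp only [pos, Sum.elim_inr] at h; omega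

theorem torus_le_borel : torus hF Φ ≤ Φ.borel hF := fun g hg => by
  rw [mem_borel_iff]
  refine mem_pres_of_e hF Φ fun k hk i hi => ?_
  obtain ⟨l, hl⟩ := hg (.inl i)
  rw [show Φ.e i = vec Φ (Sum.inl i) from rfl, hl]
  exact Submodule.smul_mem _ _ (Φ.e_mem_low hF hi)

theorem mono_inf_borel {g : Cfsg.SU n F q} (hg : g ∈ mono hF Φ) (hgB : g ∈ Φ.borel hF) : g ∈ torus hF Φ := by
  have key : ∀ k, ∀ i : Fin m, i.val = k → Sends Φ g (.inl i) (.inl i) := by
    intro k
    induction k using Nat.strong_induction_on with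
    | _ k ih =>
      intro i hi
      obtain ⟨b, hb⟩ := hg (.inl i)
      obtain ⟨l, hl⟩ := hb
      have hmem : vec Φ b ∈ Φ.low hF (i.val + 1) := by
        have h1 : l • vec Φ b ∈ Φ.low hF (i.val + 1) := by rw [← hl]; exact hgB.1 i
        have h2 := Submodule.smul_mem _ l⁻¹ h1
        rwa [smul_smul, inv_mul_cancel₀ (Sends.ne_zero (hF := hF) hl), one_smul] at h2
      rw [vec_mem_low_iff hF Φ i.isLt] at hmem
      rcases b with j | j
      · simp only [pos, Sum.elim_inl] at hmem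
        rcases Nat.lt_succ_iff_lt_or_eq.1 hmem with h | h
        · have := Sends.injective (hF := hF) ⟨l, hl⟩ (ih j.val (hi ▸ h) j rfl)
          simp only [Sum.inl.injEq] at this
          subst this; omega
        · rw [Fin.ext h] at hl; exact ⟨l, hl⟩
      · simp only [pos, Sum.elim_inr] at hmem; omega
  rintro (i | i)
  · exact key _ i rfl
  · simpa using sends_swap hF Φ hg (key _ i rfl)

theorem eich_mem_borel_pair {A B : Ix m} (h : pos A < pos B) {v w : Fin n → F}
    (hv : ∃ l : F, v = l • vec Φ A) (hw : ∃ l : F, w = l • vec Φ B.swap) (ok : Ok q v w 0) :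
    eich hF ok ∈ Φ.borel hF := by
  have H := hermForm_isHerm hF n
  obtain ⟨l, rfl⟩ := hv
  obtain ⟨k, rfl⟩ := hw
  refine ⟨fun i => ?_, fun i => ?_⟩
  · rw [suAct_eich, zero_mul, add_zero, H.smul_right, H.smul_right, show Φ.e i = vec Φ (Sum.inl i) from rfl,
      herm_vec hF Φ, herm_vec hF Φ, Sum.swap_inl]
    refine Submodule.sub_mem _ (Submodule.add_mem _ (Φ.e_mem_low hF (Nat.lt_succ_self _)) ?_) ?_
    · by_cases hB : B.swap = Sum.inr i
      · have hBi : B = Sum.inl i := by simpa using congrArg Sum.swap hB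
        refine Submodule.smul_mem _ _ (Submodule.smul_mem _ _ ((vec_mem_low_iff hF Φ i.isLt).2 ?_))
        rw [hBi] at h
        simp only [pos, Sum.elim_inl] at h ⊢
        omega
      · rw [if_neg hB, mul_zero, zero_smul]; exact Submodule.zero_mem _
    · by_cases hA : A = Sum.inr i
      · subst hA
        rcases B with j | j
        · simp only [pos, Sum.elim_inl, Sum.elim_inr] at h; omega
        · simp only [pos, Sum.elim_inr] at h
          exact Submodule.smul_mem _ _ (Submodule.smul_mem _ _ (Φ.e_mem_low hF (by omega)))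
      · rw [if_neg hA, mul_zero, zero_smul]; exact Submodule.zero_mem _
  · rw [suAct_eich, zero_mul, add_zero, H.smul_right, H.smul_right, herm_u_vec hF Φ, herm_u_vec hF Φ]
    simp [Φ.ue hF]

theorem eich_mem_borel_mid (a : Fin m) {v w : Fin n → F} {c : F} (hv : ∃ l : F, v = l • Φ.e a)
    (hw : ∃ l : F, w = l • Φ.u) (ok : Ok q v w c) : eich hF ok ∈ Φ.borel hF := by
  have H := hermForm_isHerm hF n
  obtain ⟨l, rfl⟩ := hv
  obtain ⟨k, rfl⟩ := hw
  refine ⟨fun i => ?_, fun i => ?_⟩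
  · rw [suAct_eich]
    simp only [H.smul_right, Φ.eu, Φ.ee, mul_zero, zero_add, zero_smul, add_zero, sub_zero]
    exact Φ.e_mem_low hF (Nat.lt_succ_self _)
  · rw [suAct_eich]
    simp only [H.smul_right, Φ.ue hF, mul_zero, add_zero, zero_smul, sub_zero, H.add_left, H.smul_left, Φ.ee]

end Cfsg.Agent.UnitaryBN
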