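/-
The fundamental monomial elements and their rank one data.

* `sigmaIx j`, `simp' j` : the permutation and the element, `sends_simp`, `simp_u`
* `Xset j`, `Pj j`, `key` : the root set, the parabolic and the rank one decomposition
* `dich`, `moved`, `not_borel_descent` : the two conjugation properties
-/
import Cfsg.Agent.Lib.UnitaryBN.Mono

set_option autoImplicit false
set_option linter.unusedSectionVars false

namespace Cfsg.Agent.UnitaryBN

open scoped Matrix
open Cfsg.Agent.Unitary Cfsg.Agent.UFus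

variable {F : Type*} [Field F] [Fintype F] {q n m : ℕ}

/-- The fundamental permutation of the labels. -/
def sigmaIx (j : Fin m) : Equiv.Perm (Ix m) :=
  if h : j.val + 1 < m then Equiv.sumCongr (Equiv.swap j ⟨j.val + 1, h⟩) (Equiv.swap j ⟨j.val + 1, h⟩)
  else Equiv.swap (Sum.inl j) (Sum.inr j)

theorem sigmaIx_sigmaIx (j : Fin m) (a : Ix m) : sigmaIx j (sigmaIx j a) = a := by
  unfold sigmaIx
  split_ifs
  · rcases a with i | i <;> simp
  · exact Equiv.swap_apply_self _ _ _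

theorem sigmaIx_fix (j i : Fin m) (h : i.val < j.val) : sigmaIx j (Sum.inl i) = Sum.inl i := by
  unfold sigmaIx
  split_ifs with hj
  · simp only [Equiv.sumCongr_apply, Sum.map_inl, Sum.inl.injEq]
    exact Equiv.swap_apply_of_ne_of_ne (fun e => by subst e; omega) (fun e => by subst e; simp at h)
  · exact Equiv.swap_apply_of_ne_of_ne (fun e => by cases e; omega) (fun e => by cases e)

theorem sigmaIx_injective : Function.Injective (sigmaIx : Fin m → Equiv.Perm (Ix m)) := by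
  intro j k h
  rcases lt_trichotomy j.val k.val with hlt | he | hlt
  · have h1 := sigmaIx_fix k j hlt
    rw [← h] at h1
    unfold sigmaIx at h1
    split_ifs at h1 with hj
    · simp only [Equiv.sumCongr_apply, Sum.map_inl, Equiv.swap_apply_left, Sum.inl.injEq, Fin.ext_iff] at h1; omega
    · simp at h1
  · exact Fin.ext he
  · have h1 := sigmaIx_fix j k hlt
    rw [h] at h1
    unfold sigmaIx at h1
    split_ifs at h1 with hj
    · simp only [Equiv.sumCongr_apply, Sum.map_inl, Equiv.swap_apply_left, Sum.inl.injEq, Fin.ext_iff] at h1; omega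
    · simp at h1

variable (hF : Fintype.card F = q ^ 2) (Φ : Frame n F q m)
include hF

theorem ok_swap {j k : Fin m} (hjk : j ≠ k) (t : F) : Ok q (Φ.e j) (t • Φ.f k) (0 : F) := by
  have H := hermForm_isHerm hF n
  exact ⟨Φ.ee j j, by rw [H.smul_left, Φ.fe hF, if_neg (Ne.symm hjk), mul_zero],
    by rw [H.smul_left, H.smul_right, Φ.ff, zero_pow_q hF]; simp⟩

/-- A root element. -/
noncomputable def xe {j k : Fin m} (hjk : j ≠ k) (t : F) : Cfsg.SU n F q := eich hF (ok_swap hF Φ hjk t)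

theorem suAct_swapEich {j k : Fin m} (hjk : j ≠ k) (t : F) (x : Fin n → F) :
    suAct (xe hF Φ hjk t) x =
      x + (t ^ q * Cfsg.hermForm n F q x (Φ.f k)) • Φ.e j - (Cfsg.hermForm n F q x (Φ.e j) * t) • Φ.f k := by
  rw [xe, suAct_eich, (hermForm_isHerm hF n).smul_right, zero_mul, add_zero, smul_smul]

/-- The element exchanging the pairs `j` and `k`. -/
noncomputable def swapEl {j k : Fin m} (hjk : j ≠ k) : Cfsg.SU n F q :=
  xe hF Φ hjk 1 * xe hF Φ (Ne.symm hjk) (-1) * xe hF Φ hjk 1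

theorem suAct_swapEl {j k : Fin m} (hjk : j ≠ k) :
    suAct (swapEl hF Φ hjk) (Φ.e j) = -Φ.e k ∧ suAct (swapEl hF Φ hjk) (Φ.e k) = Φ.e j ∧
    suAct (swapEl hF Φ hjk) (Φ.f j) = -Φ.f k ∧ suAct (swapEl hF Φ hjk) (Φ.f k) = Φ.f j ∧
    suAct (swapEl hF Φ hjk) Φ.u = Φ.u ∧
    ∀ i : Fin m, i ≠ j → i ≠ k → suAct (swapEl hF Φ hjk) (Φ.e i) = Φ.e i ∧
      suAct (swapEl hF Φ hjk) (Φ.f i) = Φ.f i := by
  have H := hermForm_isHerm hF n
  have hkj := Ne.symm hjk
  refine ⟨?_, ?_, ?_, ?_, ?_, fun i hij hik => ⟨?_, ?_⟩⟩ <;>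
    simp [swapEl, suAct_mul, suAct_swapEich hF Φ hjk, suAct_swapEich hF Φ hkj, H.add_left, H.sub_left, H.smul_left, H.neg_left, Φ.ee, Φ.ef,
      Φ.ff, Φ.fe hF, Φ.ue hF, Φ.uf hF, hjk, hkj, neg_pow_q hF, one_pow, *]

theorem ok_trans {a : Fin n → F} (ha : Cfsg.hermForm n F q a a = 0) {d : F} (hd : d ^ q = -d) :
    Ok q a 0 d :=
  ⟨ha, (hermForm_isHerm hF n).zero_left _, by rw [(hermForm_isHerm hF n).zero_left, hd, add_neg_cancel, neg_zero]⟩

/-- A transvection. -/
noncomputable def te {a : Fin n → F} (ha : Cfsg.hermForm n F q a a = 0) {d : F} (hd : d ^ q = -d) :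
    Cfsg.SU n F q := eich hF (ok_trans hF ha hd)

theorem suAct_transEich {a : Fin n → F} (ha : Cfsg.hermForm n F q a a = 0) {d : F} (hd : d ^ q = -d)
    (x : Fin n → F) : suAct (te hF ha hd) x = x + (d * Cfsg.hermForm n F q x a) • a := by
  rw [te, suAct_eich, (hermForm_isHerm hF n).zero_right hF, zero_add, smul_zero, sub_zero]

omit hF in
theorem neg_inv_skew {d : F} (hd : d ^ q = -d) (hF : Fintype.card F = q ^ 2) : (-d⁻¹) ^ q = -(-d⁻¹) := by
  rw [neg_pow_q hF, inv_pow, hd, inv_neg]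

/-- The chosen skew element. -/
noncomputable def skew : F := (exists_skew hF).choose

theorem skew_ne_zero : (skew hF : F) ≠ 0 := (exists_skew hF).choose_spec.1

theorem skew_pow : (skew hF : F) ^ q = -skew hF := (exists_skew hF).choose_spec.2

/-- The element exchanging `e j` and `f j`. -/
noncomputable def flipEl (j : Fin m) : Cfsg.SU n F q :=
  te hF (Φ.ee j j) (skew_pow hF) * te hF (Φ.ff j j) (neg_inv_skew (skew_pow hF) hF) *
    te hF (Φ.ee j j) (skew_pow hF)

theorem suAct_flipEl (j : Fin m) :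
    suAct (flipEl hF Φ j) (Φ.e j) = (-(skew hF)⁻¹) • Φ.f j ∧ suAct (flipEl hF Φ j) (Φ.f j) = skew hF • Φ.e j ∧
    suAct (flipEl hF Φ j) Φ.u = Φ.u ∧
    ∀ i : Fin m, i ≠ j → suAct (flipEl hF Φ j) (Φ.e i) = Φ.e i ∧ suAct (flipEl hF Φ j) (Φ.f i) = Φ.f i := by
  have H := hermForm_isHerm hF n
  have h0 : (skew hF : F) ≠ 0 := skew_ne_zero hF
  refine ⟨?_, ?_, ?_, fun i hij => ⟨?_, ?_⟩⟩ <;>
    simp [flipEl, suAct_mul, suAct_transEich hF (Φ.ee j j) (skew_pow hF), suAct_transEich hF (Φ.ff j j) (neg_inv_skew (skew_pow hF) hF), H.add_left, H.smul_left, H.neg_left, Φ.ee, Φ.ef, Φ.ff, Φ.fe hF, Φ.ue hF,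
      Φ.uf hF, h0, *]

/-- The fundamental elements. -/
noncomputable def simp' (j : Fin m) : Cfsg.SU n F q :=
  if h : j.val + 1 < m then swapEl hF Φ (show j ≠ ⟨j.val + 1, h⟩ from fun e => by simp [Fin.ext_iff] at e)
  else flipEl hF Φ j

theorem sends_simp (j : Fin m) (a : Ix m) : Sends Φ (simp' hF Φ j) a (sigmaIx j a) := by
  unfold simp' sigmaIx
  split_ifs with h
  · set k : Fin m := ⟨j.val + 1, h⟩
    have hjk : j ≠ k := fun e => by simp [k, Fin.ext_iff] at e
    obtain ⟨h1, h2, h3, h4, -, h6⟩ := suAct_swapEl hF Φ hjk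
    rcases a with i | i <;> simp only [Equiv.sumCongr_apply, Sum.map_inl, Sum.map_inr]
    · by_cases hij : i = j
      · subst hij; rw [Equiv.swap_apply_left]; exact ⟨-1, by simpa [vec] using h1⟩
      by_cases hik : i = k
      · subst hik; rw [Equiv.swap_apply_right]; exact ⟨1, by simpa [vec] using h2⟩
      rw [Equiv.swap_apply_of_ne_of_ne hij hik]; exact ⟨1, by simpa [vec] using (h6 i hij hik).1⟩
    · by_cases hij : i = j
      · subst hij; rw [Equiv.swap_apply_left]; exact ⟨-1, by simpa [vec] using h3⟩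
      by_cases hik : i = k
      · subst hik; rw [Equiv.swap_apply_right]; exact ⟨1, by simpa [vec] using h4⟩
      rw [Equiv.swap_apply_of_ne_of_ne hij hik]; exact ⟨1, by simpa [vec] using (h6 i hij hik).2⟩
  · obtain ⟨h1, h2, -, h4⟩ := suAct_flipEl hF Φ j
    rcases a with i | i
    · by_cases hij : i = j
      · subst hij; rw [Equiv.swap_apply_left]; exact ⟨-(skew hF)⁻¹, by simpa [vec] using h1⟩
      rw [Equiv.swap_apply_of_ne_of_ne (by simpa using hij) (by simp)]
      exact ⟨1, by simpa [vec] using (h4 i hij).1⟩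
    · by_cases hij : i = j
      · subst hij; rw [Equiv.swap_apply_right]; exact ⟨skew hF, by simpa [vec] using h2⟩
      rw [Equiv.swap_apply_of_ne_of_ne (by simp) (by simpa using hij)]
      exact ⟨1, by simpa [vec] using (h4 i hij).2⟩

theorem simp_mem_mono (j : Fin m) : simp' hF Φ j ∈ mono hF Φ := fun a => ⟨_, sends_simp hF Φ j a⟩

theorem simp_sq_mem (j : Fin m) : simp' hF Φ j * simp' hF Φ j ∈ torus hF Φ := fun a => by
  have h := (sends_simp hF Φ j a).trans (hF := hF) (sends_simp hF Φ j _)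
  rwa [sigmaIx_sigmaIx] at h

/-- The index set of the fundamental parabolic. -/
def keep (m : ℕ) (j : Fin m) : Set ℕ := {k | k ≤ m ∧ k ≠ j.val + 1}

/-- The fundamental parabolic. -/
def Pj (j : Fin m) : Subgroup (Cfsg.SU n F q) := pres hF Φ (keep m j)

theorem borel_le_Pj (j : Fin m) : Φ.borel hF ≤ Pj hF Φ j := fun _ hg k hk =>
  (mem_borel_iff hF Φ).1 hg k hk.1

theorem simp_mem_Pj (j : Fin m) : simp' hF Φ j ∈ Pj hF Φ j := by
  refine mem_pres_of_e hF Φ fun k hk i hi => ?_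
  obtain ⟨hk1, hk2⟩ := hk
  obtain ⟨l, hl⟩ := sends_simp hF Φ j (Sum.inl i)
  rw [show Φ.e i = vec Φ (Sum.inl i) from rfl, hl]
  refine Submodule.smul_mem _ _ ((vec_mem_low_iff hF Φ hk1).2 ?_)
  unfold sigmaIx
  split_ifs with h
  · simp only [Equiv.sumCongr_apply, Sum.map_inl, pos, Sum.elim_inl]
    rcases eq_or_ne i j with rfl | hij
    · rw [Equiv.swap_apply_left]; show i.val + 1 < k; omega
    rcases eq_or_ne i ⟨j.val + 1, h⟩ with rfl | hik
    · rw [Equiv.swap_apply_right]; simp at hi; omega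
    · rw [Equiv.swap_apply_of_ne_of_ne hij hik]; exact hi
  · rw [Equiv.swap_apply_of_ne_of_ne (by simp only [ne_eq, Sum.inl.injEq]; rintro rfl; omega) (by simp)]
    simpa [pos] using hi

/-- The root set of `j`. -/
def Xset (j : Fin m) : Set (Cfsg.SU n F q) :=
  if h : j.val + 1 < m then {x | ∃ (t : F) (ok : Ok q (Φ.e j) (t • Φ.f ⟨j.val + 1, h⟩) (0 : F)), x = eich hF ok}
  else {x | ∃ (b c : F) (ok : Ok q (Φ.e j) (b • Φ.u) c), x = eich hF ok}

theorem Xset_le (j : Fin m) {x : Cfsg.SU n F q} (hx : x ∈ Xset hF Φ j) : x ∈ Φ.borel hF := by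
  unfold Xset at hx
  split_ifs at hx with h
  · obtain ⟨t, ok, rfl⟩ := hx
    exact eich_mem_borel_pair hF Φ (A := Sum.inl j) (B := Sum.inl ⟨j.val + 1, h⟩) (by simp [pos])
      ⟨1, by simp [vec]⟩ ⟨t, by simp [vec]⟩ ok
  · obtain ⟨b, c, ok, rfl⟩ := hx
    exact eich_mem_borel_mid hF Φ j ⟨1, (one_smul _ _).symm⟩ ⟨b, rfl⟩ ok

theorem dich (j : Fin m) {g : Cfsg.SU n F q} (hg : g ∈ mono hF Φ) :
    (∀ x ∈ Xset hF Φ j, g * x * g⁻¹ ∈ Φ.borel hF) ∨
      (∀ x ∈ Xset hF Φ j, g * (simp' hF Φ j)⁻¹ * x * (g * (simp' hF Φ j)⁻¹)⁻¹ ∈ Φ.borel hF) := by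
  obtain ⟨A, hA⟩ := hg (Sum.inl j)
  have hs := fun a => (sends_simp hF Φ j a).symm (hF := hF)
  unfold Xset
  split_ifs with h
  · set k : Fin m := ⟨j.val + 1, h⟩
    obtain ⟨B, hB⟩ := hg (Sum.inl k)
    have hA' : Sends Φ (g * (simp' hF Φ j)⁻¹) (Sum.inl j) B := by
      have := hs (Sum.inl k)
      unfold sigmaIx at this
      rw [dif_pos h] at this
      simp only [Equiv.sumCongr_apply, Sum.map_inl] at this
      rw [Equiv.swap_apply_right] at this
      exact this.trans (hF := hF) hB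
    have hB' : Sends Φ (g * (simp' hF Φ j)⁻¹) (Sum.inl k) A := by
      have := hs (Sum.inl j)
      unfold sigmaIx at this
      rw [dif_pos h] at this
      simp only [Equiv.sumCongr_apply, Sum.map_inl] at this
      rw [Equiv.swap_apply_left] at this
      exact this.trans (hF := hF) hA
    have hne : pos A ≠ pos B := fun e => by
      rw [← pos_injective e] at hB
      have := Sends.injective (hF := hF) hA hB
      simp [k, Fin.ext_iff] at this
    have gen : ∀ g' : Cfsg.SU n F q, g' ∈ mono hF Φ → ∀ A' B' : Ix m, Sends Φ g' (Sum.inl j) A' →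
        Sends Φ g' (Sum.inl k) B' → pos A' < pos B' →
        ∀ x ∈ {x | ∃ (t : F) (ok : Ok q (Φ.e j) (t • Φ.f k) (0 : F)), x = eich hF ok},
        g' * x * g'⁻¹ ∈ Φ.borel hF := by
      rintro g' hg' A' B' hA' hB' hlt _ ⟨t, ok, rfl⟩
      rw [eich_conj]
      refine eich_mem_borel_pair hF Φ hlt hA' ?_ _
      obtain ⟨l, hl⟩ := sends_swap hF Φ hg' hB'
      exact ⟨t * l, by rw [suAct_smul, show Φ.f k = vec Φ (Sum.inl k).swap from rfl, hl, smul_smul]⟩
    rcases Nat.lt_or_ge (pos A) (pos B) with hlt | hge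
    · exact Or.inl (gen g hg A B hA hB hlt)
    · exact Or.inr (gen _ ((mono hF Φ).mul_mem hg ((mono hF Φ).inv_mem (simp_mem_mono hF Φ j))) B A hA' hB'
        (lt_of_le_of_ne hge (Ne.symm hne)))
  · have gen : ∀ g' : Cfsg.SU n F q, g' ∈ mono hF Φ → ∀ a : Fin m, Sends Φ g' (Sum.inl j) (Sum.inl a) →
        ∀ x ∈ {x | ∃ (b c : F) (ok : Ok q (Φ.e j) (b • Φ.u) c), x = eich hF ok}, g' * x * g'⁻¹ ∈ Φ.borel hF := by
      rintro g' hg' a ha _ ⟨b, c, ok, rfl⟩
      rw [eich_conj]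
      refine eich_mem_borel_mid hF Φ a ha ⟨b * Cfsg.hermForm n F q (suAct g' Φ.u) Φ.u, ?_⟩ _
      rw [suAct_smul, mono_u hF Φ hg', smul_smul, ← mono_u hF Φ hg']
    rcases A with a | a
    · exact Or.inl (gen g hg a hA)
    · refine Or.inr (gen _ ((mono hF Φ).mul_mem hg ((mono hF Φ).inv_mem (simp_mem_mono hF Φ j))) a ?_)
      have := hs (Sum.inr j)
      unfold sigmaIx at this
      rw [dif_neg h] at this
      simp only [Equiv.swap_apply_right] at this
      exact this.trans (hF := hF) (by simpa using sends_swap hF Φ hg hA)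

theorem moved (j : Fin m) : ∃ x ∈ Xset hF Φ j, simp' hF Φ j * x * (simp' hF Φ j)⁻¹ ∉ Φ.borel hF := by
  have H := hermForm_isHerm hF n
  unfold simp' Xset
  split_ifs with h
  · set k : Fin m := ⟨j.val + 1, h⟩
    have hjk : j ≠ k := fun e => by simp [k, Fin.ext_iff] at e
    obtain ⟨h1, -, -, h4, -, -⟩ := suAct_swapEl hF Φ hjk
    have h4' : suAct (swapEl hF Φ hjk) (Φ.f ⟨j.val + 1, h⟩) = Φ.f j := h4
    refine ⟨_, ⟨1, ok_swap hF Φ hjk 1, rfl⟩, fun hB => ?_⟩
    rw [eich_conj] at hB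
    have h5 := (hB.1 j).2.2 k (by simp [k])
    simp only [suAct_eich, suAct_smul, h1, h4', zero_mul, add_zero, H.smul_right, H.neg_right hF] at h5
    simp [H.add_left, H.sub_left, H.smul_left, H.neg_left, Φ.ee, Φ.ef, hjk, Ne.symm hjk] at h5
  · obtain ⟨h1, -, -, -⟩ := suAct_flipEl hF Φ j
    have ok : Ok q (Φ.e j) ((0 : F) • Φ.u) (skew hF) := by
      rw [zero_smul]; exact ok_trans hF (Φ.ee j j) (skew_pow hF)
    refine ⟨_, ⟨0, _, ok, rfl⟩, fun hB => ?_⟩
    rw [eich_conj] at hB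
    have h5 := (hB.1 j).1 j
    simp [suAct_eich, suAct_smul, suAct_zero, h1, H.smul_right, H.zero_right hF, H.neg_right hF, H.add_left, H.neg_left,
      H.smul_left, Φ.ee, Φ.ef, Φ.fe hF, skew_ne_zero hF, inv_pow, neg_pow_q hF] at h5

theorem key (j : Fin m) {g : Cfsg.SU n F q} (hg : g ∈ Pj hF Φ j) :
    g ∈ Φ.borel hF ∨ ∃ x ∈ Xset hF Φ j, ∃ c ∈ Φ.borel hF, g = x * simp' hF Φ j * c := by
  have H := hermForm_isHerm hF n
  -- it is enough to control the image of `e j`
  have hborel : ∀ g' ∈ Pj hF Φ j, suAct g' (Φ.e j) ∈ Φ.low hF (j.val + 1) → g' ∈ Φ.borel hF := by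
    intro g' hg' hj
    rw [mem_borel_iff]
    intro k hk x hx
    by_cases hkj : k = j.val + 1
    · subst hkj
      refine Φ.mulVec_low hF (fun i hi => ?_) hx
      rcases Nat.lt_succ_iff_lt_or_eq.1 hi with hlt | he
      · exact Φ.low_mono hF (Nat.le_succ _) (hg' j.val ⟨j.isLt.le, by omega⟩ _ (Φ.e_mem_low hF hlt))
      · rw [Fin.ext he]; exact hj
    · exact hg' k ⟨hk, hkj⟩ x hx
  have finish : ∀ x ∈ Xset hF Φ j, ∀ (l : F) (r : Fin n → F), r ∈ Φ.low hF j.val →
      suAct g (Φ.e j) = l • suAct (x * simp' hF Φ j) (Φ.e j) + r →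
      ∃ x ∈ Xset hF Φ j, ∃ c ∈ Φ.borel hF, g = x * simp' hF Φ j * c := by
    intro x hx l r hr e
    have hmem : (x * simp' hF Φ j)⁻¹ ∈ Pj hF Φ j :=
      inv_mem (mul_mem (borel_le_Pj hF Φ j (Xset_le hF Φ j hx)) (simp_mem_Pj hF Φ j))
    refine ⟨x, hx, (x * simp' hF Φ j)⁻¹ * g, hborel _ (mul_mem hmem hg) ?_, by group⟩
    rw [suAct_mul, e, suAct_add, suAct_smul, suAct_inv_suAct]
    exact Submodule.add_mem _ (Submodule.smul_mem _ _ (Φ.e_mem_low hF (Nat.lt_succ_self _)))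
      (Φ.low_mono hF (Nat.le_succ _) (hmem j.val ⟨j.isLt.le, by omega⟩ r hr))
  set y := suAct g (Φ.e j) with hy
  by_cases h : j.val + 1 < m
  · set k : Fin m := ⟨j.val + 1, h⟩ with hk
    have hjk : j ≠ k := fun e => by simp [k, Fin.ext_iff] at e
    have hyl : y ∈ Φ.low hF (j.val + 2) := hg (j.val + 2) ⟨h, by omega⟩ _ (Φ.e_mem_low hF (by omega))
    by_cases hb : Cfsg.hermForm n F q y (Φ.f k) = 0
    · refine Or.inl (hborel g hg ⟨hyl.1, hyl.2.1, fun i hi => ?_⟩)
      rcases Nat.lt_or_ge (j.val + 1) i.val with hlt | hge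
      · exact hyl.2.2 i hlt
      · rw [show i = k from Fin.ext (by simp [k]; omega)]; exact hb
    obtain ⟨t, ht⟩ : ∃ t : F, t ^ q = Cfsg.hermForm n F q y (Φ.f j) / Cfsg.hermForm n F q y (Φ.f k) :=
      ⟨_, pow_q_pow_q hF _⟩
    obtain ⟨h1, -, -, -, -, -⟩ := suAct_swapEl hF Φ hjk
    have hx : xe hF Φ hjk t ∈ Xset hF Φ j := by
      unfold Xset; rw [dif_pos h]; exact ⟨t, ok_swap hF Φ hjk t, rfl⟩
    refine Or.inr (finish _ hx (-Cfsg.hermForm n F q y (Φ.f k))
      (y - Cfsg.hermForm n F q y (Φ.f k) • Φ.e k - Cfsg.hermForm n F q y (Φ.f j) • Φ.e j) ?_ ?_)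
    · refine ⟨fun i => ?_, ?_, fun i hi => ?_⟩
      · simp [H.sub_left, H.smul_left, hyl.1 i, Φ.ee]
      · simp [H.sub_left, H.smul_left, hyl.2.1, Φ.eu]
      · rw [H.sub_left, H.sub_left, H.smul_left, H.smul_left, Φ.ef, Φ.ef]
        by_cases hij : j = i
        · subst hij; simp [Ne.symm hjk]
        by_cases hik : k = i
        · subst hik; simp [hjk]
        have : j.val + 2 ≤ i.val := by
          have h1 : j.val ≠ i.val := fun e => hij (Fin.ext e)
          have h2 : j.val + 1 ≠ i.val := fun e => hik (Fin.ext e)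
          omega
        rw [hyl.2.2 i this, if_neg hik, if_neg hij]; simp
    · have hs : suAct (simp' hF Φ j) (Φ.e j) = -Φ.e k := by unfold simp'; rw [dif_pos h]; exact h1
      rw [suAct_mul, hs, suAct_swapEich, H.neg_left, H.neg_left, Φ.ef, Φ.ee, if_pos rfl, ht, neg_zero, zero_mul,
        zero_smul, sub_zero, smul_add, smul_smul, neg_smul, smul_neg, neg_neg,
        show -Cfsg.hermForm n F q y (Φ.f k) * (Cfsg.hermForm n F q y (Φ.f j) / Cfsg.hermForm n F q y (Φ.f k) * -1) =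
          Cfsg.hermForm n F q y (Φ.f j) by field_simp]
      abel
  · have hye : ∀ i : Fin m, i ≠ j → Cfsg.hermForm n F q y (Φ.e i) = 0 := fun i hi => by
      have h1 : suAct g⁻¹ (Φ.e i) ∈ Φ.low hF j.val := (Pj hF Φ j).inv_mem hg j.val ⟨j.isLt.le, by omega⟩ _
        (Φ.e_mem_low hF (by have := Fin.val_ne_of_ne hi; omega))
      rw [hy, ← suAct_suAct_inv g (Φ.e i), suAct_herm]
      exact ((hermForm_isHerm hF n).eq_zero_symm hF).1 (h1.1 j)
    set a := Cfsg.hermForm n F q y (Φ.f j) with ha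
    set b := Cfsg.hermForm n F q y (Φ.e j) with hbdef
    set γ := Cfsg.hermForm n F q y Φ.u with hγ
    set r := y - b • Φ.f j - a • Φ.e j - γ • Φ.u with hr
    have hγu : γ * Cfsg.hermForm n F q Φ.u Φ.u = γ := by
      rcases Φ.hu with h0 | h1
      · rw [hγ, h0, H.zero_right hF, zero_mul]
      · rw [h1, mul_one]
    have hrmem : r ∈ Φ.low hF j.val := by
      refine ⟨fun i => ?_, ?_, fun i hi => ?_⟩
      · simp only [hr, H.sub_left, H.smul_left, Φ.fe hF, Φ.ee, Φ.ue hF]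
        by_cases hij : i = j
        · subst hij; simp [hbdef]
        · simp [hye i hij, Ne.symm hij]
      · simp only [hr, H.sub_left, H.smul_left, Φ.fu, Φ.eu, hγu]; simp [hγ]
      · obtain rfl : i = j := Fin.ext (by omega)
        simp [hr, H.sub_left, H.smul_left, Φ.ff, Φ.ef, Φ.uf hF, ha]
    have hiso : a * b ^ q + b * a ^ q + γ * γ ^ q * Cfsg.hermForm n F q Φ.u Φ.u = 0 := by
      have h0 : Cfsg.hermForm n F q y y = 0 := by rw [hy, suAct_herm, Φ.ee]
      have hperp : ∀ z : Fin n → F, (∀ l : Fin m, l.val < j.val → Cfsg.hermForm n F q z (Φ.e l) = 0) →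
          Cfsg.hermForm n F q z r = 0 ∧ Cfsg.hermForm n F q r z = 0 := fun z hz =>
        ⟨Φ.herm_low hF hrmem hz, (H.eq_zero_symm hF).1 (Φ.herm_low hF hrmem hz)⟩
      have e : y = r + b • Φ.f j + a • Φ.e j + γ • Φ.u := by rw [hr]; abel
      have hne : ∀ l : Fin m, l.val < j.val → j ≠ l := fun l hl => fun e => by subst e; omega
      obtain ⟨p1, p1'⟩ := hperp (Φ.f j) fun l hl => by rw [Φ.fe hF, if_neg (hne l hl)]
      obtain ⟨p2, p2'⟩ := hperp (Φ.e j) fun l _ => Φ.ee _ _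
      obtain ⟨p3, p3'⟩ := hperp Φ.u fun l _ => Φ.ue hF l
      obtain ⟨p4, -⟩ := hperp r fun l _ => hrmem.1 l
      rw [e] at h0
      simp only [H.add_left, H.add_right hF, H.smul_left, H.smul_right, p1, p1', p2, p2', p3, p3', p4, Φ.ff, Φ.ee,
        Φ.ef, Φ.fe hF, Φ.eu, Φ.fu, Φ.ue hF, Φ.uf hF, if_true] at h0
      linear_combination h0
    by_cases hb : b = 0
    · refine Or.inl (hborel g hg ?_)
      have hγ0 : γ • Φ.u = 0 := by
        rcases Φ.hu with h0 | h1
        · rw [h0, smul_zero]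
        · rw [h1, hb, zero_pow_q hF, mul_zero, zero_mul, zero_add, zero_add, mul_one, ← pow_succ'] at hiso
          rw [pow_eq_zero_iff (Nat.succ_ne_zero q) |>.1 hiso, zero_smul]
      rw [show suAct g (Φ.e j) = r + a • Φ.e j by rw [← hy, hr, hb, hγ0]; simp]
      exact Submodule.add_mem _ (Φ.low_mono hF (Nat.le_succ _) hrmem)
        (Submodule.smul_mem _ _ (Φ.e_mem_low hF (Nat.lt_succ_self _)))
    · obtain ⟨h1, -, -, -⟩ := suAct_flipEl hF Φ j
      have hbq : b ^ q ≠ 0 := pow_ne_zero _ hb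
      have ok : Ok q (Φ.e j) ((-(γ / b)) • Φ.u) (a / b) := by
        refine ⟨Φ.ee j j, by rw [H.smul_left, Φ.ue hF, mul_zero], ?_⟩
        rw [H.smul_left, H.smul_right, neg_pow_q hF, div_pow, div_pow]
        field_simp
        linear_combination hiso
      have hx : eich hF ok ∈ Xset hF Φ j := by
        unfold Xset; rw [dif_neg h]; exact ⟨_, _, ok, rfl⟩
      refine Or.inr (finish _ hx (-(b * skew hF)) r hrmem ?_)
      have hs : suAct (simp' hF Φ j) (Φ.e j) = (-(skew hF)⁻¹) • Φ.f j := by unfold simp'; rw [dif_neg h]; exact h1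
      rw [suAct_mul, hs, suAct_smul, suAct_eich, H.smul_right, Φ.fu, Φ.fe hF, if_pos rfl, smul_smul,
        show -(b * skew hF) * -(skew hF)⁻¹ = b by field_simp [skew_ne_zero hF], hr]
      simp only [smul_sub, smul_add, smul_smul, smul_neg, neg_smul, mul_zero, zero_add, mul_one, one_mul]
      rw [show b * (a / b) = a by field_simp, show b * (γ / b) = γ by field_simp]
      abel

end Cfsg.Agent.UnitaryBN
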