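/-
The (B,N)-pair of SU_n(q).

* `nGroup`, `exists_reach`, `borel_sup_nGroup` : the monomial group and generation
* `rankOne` : the rank one data of `UnitaryBN.RankOneData`
-/
import Cfsg.Agent.Lib.UnitaryBN.Simple
import Cfsg.Agent.Lib.UnitaryBN.Abstract

set_option autoImplicit false
set_option linter.unusedSectionVars false

namespace Cfsg.Agent.UnitaryBN

open scoped Matrix
open Cfsg.Agent.Unitary Cfsg.Agent.UFus

variable {F : Type*} [Field F] [Fintype F] {q n m : ℕ}
variable (hF : Fintype.card F = q ^ 2) (Φ : Frame n F q m)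
include hF

/-- The group generated by the fundamental elements and the torus. -/
noncomputable def nGroup : Subgroup (Cfsg.SU n F q) :=
  Subgroup.closure (Set.range (simp' hF Φ)) ⊔ torus hF Φ

theorem nGroup_le_mono : nGroup hF Φ ≤ mono hF Φ :=
  sup_le ((Subgroup.closure_le _).2 (by rintro _ ⟨j, rfl⟩; exact simp_mem_mono hF Φ j)) (torus_le_mono hF Φ)

theorem simp_mem_nGroup (j : Fin m) : simp' hF Φ j ∈ nGroup hF Φ :=
  Subgroup.mem_sup_left (Subgroup.subset_closure ⟨j, rfl⟩)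

theorem exists_flip : ∀ (d : ℕ) (k : Fin m), k.val + d + 1 = m → ∃ g ∈ nGroup hF Φ,
    Sends Φ g (.inl k) (.inr k) ∧ ∀ i : Fin m, i.val < k.val → Sends Φ g (.inl i) (.inl i) := by
  intro d
  induction d with
  | zero =>
    intro k hk
    refine ⟨_, simp_mem_nGroup hF Φ k, ?_, fun i hi => ?_⟩
    · have := sends_simp hF Φ k (.inl k)
      unfold sigmaIx at this
      rwa [dif_neg (by omega), Equiv.swap_apply_left] at this
    · simpa [sigmaIx_fix k i hi] using sends_simp hF Φ k (.inl i)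
  | succ d ih =>
    intro k hk
    have h : k.val + 1 < m := by omega
    obtain ⟨g, hg, h1, h2⟩ := ih ⟨k.val + 1, h⟩ (by simp; omega)
    refine ⟨simp' hF Φ k * g * simp' hF Φ k,
      mul_mem (mul_mem (simp_mem_nGroup hF Φ k) hg) (simp_mem_nGroup hF Φ k), ?_, fun i hi => ?_⟩
    · have e1 := sends_simp hF Φ k (.inl k)
      have e2 := sends_simp hF Φ k (.inr ⟨k.val + 1, h⟩)
      unfold sigmaIx at e1 e2
      rw [dif_pos h] at e1 e2
      simp only [Equiv.sumCongr_apply, Sum.map_inl, Sum.map_inr, Equiv.swap_apply_left, Equiv.swap_apply_right] at e1 e2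
      exact e1.trans (hF := hF) (h1.trans (hF := hF) e2)
    · have e1 := sends_simp hF Φ k (.inl i)
      rw [sigmaIx_fix k i hi] at e1
      exact e1.trans (hF := hF) ((h2 i (by simp; omega)).trans (hF := hF) e1)

/-- The index of a label. -/
def idx : Ix m → Fin m := Sum.elim id id

theorem exists_down : ∀ (d : ℕ) (k l : Fin m), l.val = k.val + d → ∃ g ∈ nGroup hF Φ,
    Sends Φ g (.inl l) (.inl k) ∧ ∀ i : Fin m, i.val < k.val → Sends Φ g (.inl i) (.inl i) := by
  intro d
  induction d with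
  | zero =>
    intro k l h
    obtain rfl : l = k := Fin.ext (by simpa using h)
    exact ⟨1, one_mem _, Sends.one (hF := hF) _, fun i _ => Sends.one (hF := hF) _⟩
  | succ d ih =>
    intro k l h
    have hl : k.val + d < m := by omega
    obtain ⟨g, hg, h1, h2⟩ := ih k ⟨k.val + d, hl⟩ rfl
    refine ⟨g * simp' hF Φ ⟨k.val + d, hl⟩, mul_mem hg (simp_mem_nGroup hF Φ _), ?_, fun i hi => ?_⟩
    · have e1 := sends_simp hF Φ ⟨k.val + d, hl⟩ (.inl l)
      have hlt : k.val + d + 1 < m := by omega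
      have hle : l = ⟨k.val + d + 1, hlt⟩ := Fin.ext (by simp; omega)
      unfold sigmaIx at e1
      rw [dif_pos hlt] at e1
      simp only [Equiv.sumCongr_apply, Sum.map_inl, hle, Equiv.swap_apply_right] at e1
      rw [← hle] at e1
      exact e1.trans (hF := hF) h1
    · have e1 := sends_simp hF Φ ⟨k.val + d, hl⟩ (.inl i)
      rw [sigmaIx_fix _ i (by simp; omega)] at e1
      exact e1.trans (hF := hF) (h2 i hi)

theorem exists_reach (k : Fin m) (a : Ix m) (ha : k ≤ idx a) : ∃ g ∈ nGroup hF Φ,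
    Sends Φ g a (.inr k) ∧ ∀ i : Fin m, i.val < k.val → Sends Φ g (.inl i) (.inl i) := by
  have hk : k.val + (m - k.val - 1) + 1 = m := by have := k.isLt; omega
  obtain ⟨f, hf, f1, f2⟩ := exists_flip hF Φ _ k hk
  rcases a with l | l
  · obtain ⟨g, hg, g1, g2⟩ := exists_down hF Φ (l.val - k.val) k l (by have h : k.val ≤ l.val := ha; omega)
    exact ⟨f * g, mul_mem hf hg, g1.trans (hF := hF) f1, fun i hi => (g2 i hi).trans (hF := hF) (f2 i hi)⟩
  · obtain ⟨g, hg, g1, g2⟩ := exists_down hF Φ (l.val - k.val) k l (by have h : k.val ≤ l.val := ha; omega)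
    exact ⟨g, hg, by simpa using sends_swap hF Φ (nGroup_le_mono hF Φ hg) g1, g2⟩

/-- An element of the radical moving `f k` to a prescribed isotropic vector. -/
theorem exists_eich_to (k : Fin m) {y : Fin n → F} (hy : Cfsg.hermForm n F q y y = 0)
    (hk : Cfsg.hermForm n F q y (Φ.e k) = 1)
    (hlow : ∀ i : Fin m, i.val < k.val → Cfsg.hermForm n F q y (Φ.e i) = 0) :
    ∃ x ∈ Φ.unip hF, suAct x (Φ.f k) = y := by
  have H := hermForm_isHerm hF n
  set v := y - Φ.f k with hv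
  have hve : Cfsg.hermForm n F q v (Φ.e k) = 0 := by rw [hv, H.sub_left, hk, Φ.fe hF, if_pos rfl, sub_self]
  have hev : Cfsg.hermForm n F q (Φ.e k) v = 0 := (H.eq_zero_symm hF).1 hve
  set c := Cfsg.hermForm n F q v (Φ.f k) with hc
  have hiso : c + c ^ q + Cfsg.hermForm n F q v v = 0 := by
    rw [show y = Φ.f k + v by rw [hv]; abel] at hy
    simp only [H.add_left, H.add_right hF, Φ.ff, zero_add] at hy
    rw [H.conj_symm v (Φ.f k), ← hc] at hy
    linear_combination hy
  have ok : Ok q (Φ.e k) (-(v - c • Φ.e k)) c := by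
    refine ⟨Φ.ee k k, ?_, ?_⟩
    · rw [H.neg_left, H.sub_left, H.smul_left, hve, Φ.ee, mul_zero, sub_zero, neg_zero]
    · simp only [H.neg_left, H.neg_right hF, neg_neg, H.sub_left, H.sub_right hF, H.smul_left,
        H.smul_right, hve, hev, Φ.ee, mul_zero, sub_zero]
      linear_combination hiso
  refine ⟨eich hF ok, Φ.eich_mem_unip hF k ok fun i hi => ?_, ?_⟩
  · rw [H.neg_right hF, H.sub_right hF, H.smul_right, Φ.ee, mul_zero, sub_zero, neg_eq_zero]
    apply (H.eq_zero_symm hF).1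
    rcases eq_or_lt_of_le hi with he | hlt
    · rw [Fin.ext he]; exact hve
    · rw [hv, H.sub_left, hlow i hlt, Φ.fe hF, if_neg (fun e => by subst e; omega), sub_zero]
  · have hfv : Cfsg.hermForm n F q (Φ.f k) v = c ^ q := H.conj_symm v (Φ.f k)
    rw [suAct_eich, Φ.fe hF, if_pos rfl, H.neg_right hF, H.sub_right hF, H.smul_right, hfv, Φ.fe hF, if_pos rfl,
      show y = Φ.f k + v by rw [hv]; abel]
    simp only [mul_one, sub_self, neg_zero, zero_add, one_smul]
    abel

theorem borel_sup_nGroup : Φ.borel hF ⊔ nGroup hF Φ = ⊤ := by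
  have H := hermForm_isHerm hF n
  set G0 := Φ.borel hF ⊔ nGroup hF Φ
  suffices ∀ k, k ≤ m → ∀ g, ∃ a ∈ G0, a * g ∈ pres hF Φ {i | i ≤ k} by
    rw [eq_top_iff]
    intro g _
    obtain ⟨a, ha, hag⟩ := this m le_rfl g
    rw [← mem_borel_iff] at hag
    rw [show g = a⁻¹ * (a * g) by group]
    exact mul_mem (inv_mem ha) (Subgroup.mem_sup_left hag)
  intro k
  induction k with
  | zero =>
    intro _ g
    refine ⟨1, one_mem _, fun i (hi : i ≤ 0) x hx => ?_⟩
    rw [Nat.le_zero.1 hi] at hx ⊢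
    rw [Φ.eq_zero_of_low_zero hF hx, suAct_zero]
    exact Submodule.zero_mem _
  | succ k ih =>
    intro hk g₀
    obtain ⟨a₀, ha₀, hg⟩ := ih (by omega) g₀
    suffices ∃ a ∈ G0, a * (a₀ * g₀) ∈ pres hF Φ {i | i ≤ k + 1} by
      obtain ⟨a, ha, h⟩ := this
      exact ⟨a * a₀, mul_mem ha ha₀, by rwa [mul_assoc]⟩
    generalize a₀ * g₀ = g at hg ⊢
    let κ : Fin m := ⟨k, by omega⟩
    set y := suAct g (Φ.e κ) with hy
    have hlowy : ∀ i : Fin m, i.val < k → Cfsg.hermForm n F q y (Φ.e i) = 0 := fun i hi => by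
      rw [hy, ← suAct_suAct_inv g (Φ.e i), suAct_herm]
      exact Φ.herm_low hF ((pres hF Φ _).inv_mem hg k (show k ≤ k from le_rfl) _ (Φ.e_mem_low hF hi))
        fun l _ => Φ.ee κ l
    have hyy : Cfsg.hermForm n F q y y = 0 := by rw [hy, suAct_herm, Φ.ee]
    obtain ⟨a, ha, hcoef⟩ : ∃ a : Ix m, k ≤ (idx a).val ∧ Cfsg.hermForm n F q y (vec Φ a.swap) ≠ 0 := by
      by_contra hall
      push Not at hall
      have hye : ∀ i, Cfsg.hermForm n F q y (Φ.e i) = 0 := fun i => by
        rcases Nat.lt_or_ge i.val k with h | h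
        · exact hlowy i h
        · exact hall (.inr i) h
      have hd := Φ.perp_decomp hF hye
      set γ := Cfsg.hermForm n F q y Φ.u with hγ
      have hγ0 : γ • Φ.u = 0 := by
        rcases Φ.hu with h0 | h1
        · rw [h0, smul_zero]
        · have hperp : Cfsg.hermForm n F q (y - γ • Φ.u) (y - γ • Φ.u) = 0 :=
            Φ.herm_low hF hd fun l _ => hd.1 l
          have huy : Cfsg.hermForm n F q Φ.u y = γ ^ q := H.conj_symm y Φ.u
          rw [H.sub_left, H.sub_right hF, H.sub_right hF, H.smul_left, H.smul_left, H.smul_right, H.smul_right,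
            hyy, huy, ← hγ, h1] at hperp
          have h2 : γ ^ (q + 1) = 0 := by rw [pow_succ]; linear_combination -hperp
          rw [pow_eq_zero_iff (Nat.succ_ne_zero q) |>.1 h2, zero_smul]
      rw [hγ0, sub_zero] at hd
      have hyk : y ∈ Φ.low hF k := ⟨hd.1, hd.2.1, fun i hi => hall (.inl i) hi⟩
      have := (pres hF Φ _).inv_mem hg k (show k ≤ k from le_rfl) y hyk
      rw [hy, suAct_inv_suAct] at this
      have h1 := this.2.2 κ (le_refl k)
      rw [Φ.ef, if_pos rfl] at h1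
      exact one_ne_zero h1
    obtain ⟨t, ht, t1, t2⟩ := exists_reach hF Φ κ a ha
    set y₁ := suAct t y with hy₁
    have hb : Cfsg.hermForm n F q y₁ (Φ.e κ) ≠ 0 := by
      obtain ⟨l, hl⟩ := sends_swap hF Φ (nGroup_le_mono hF Φ ht) t1
      intro h0
      refine hcoef ?_
      rw [← suAct_herm t, hl, H.smul_right, show vec Φ (Sum.swap (Sum.inr κ)) = Φ.e κ from rfl, ← hy₁, h0, mul_zero]
    have hfix : ∀ s : Cfsg.SU n F q, (∀ i : Fin m, i.val < k → Sends Φ s (.inl i) (.inl i)) →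
        s ∈ pres hF Φ {i | i ≤ k} := fun s hs => mem_pres_of_e hF Φ fun r (hr : r ≤ k) i hi => by
      obtain ⟨l, hl⟩ := hs i (by omega)
      rw [show Φ.e i = vec Φ (Sum.inl i) from rfl, hl]
      exact Submodule.smul_mem _ _ (Φ.e_mem_low hF hi)
    set b := Cfsg.hermForm n F q y₁ (Φ.e κ) with hbdef
    obtain ⟨x, hx, hxy⟩ := exists_eich_to hF Φ κ (y := b⁻¹ • y₁)
      (by rw [H.smul_left, H.smul_right, hy₁, suAct_herm, hyy, mul_zero, mul_zero])
      (by rw [H.smul_left, ← hbdef, inv_mul_cancel₀ hb])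
      (fun i hi => by
        obtain ⟨l, hl⟩ := (t2 i hi).symm (hF := hF)
        rw [H.smul_left, hy₁, ← suAct_herm t⁻¹, suAct_inv_suAct, show Φ.e i = vec Φ (Sum.inl i) from rfl, hl,
          H.smul_right, show vec Φ (Sum.inl i) = Φ.e i from rfl, hlowy i hi, mul_zero, mul_zero])
    obtain ⟨t', ht', s1, s2⟩ := exists_reach hF Φ κ (.inl κ) le_rfl
    have hxB : x ∈ Φ.borel hF := Φ.unip_le_borel hF hx
    refine ⟨t'⁻¹ * x⁻¹ * t, mul_mem (mul_mem (inv_mem (Subgroup.mem_sup_right ht'))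
      (inv_mem (Subgroup.mem_sup_left hxB))) (Subgroup.mem_sup_right ht), ?_⟩
    have hpk : t'⁻¹ * x⁻¹ * t * g ∈ pres hF Φ {i | i ≤ k} :=
      mul_mem (mul_mem (mul_mem (inv_mem (hfix t' s2)) (inv_mem fun r (hr : r ≤ k) => (mem_borel_iff hF Φ).1 hxB r
        (show r ≤ m by omega))) (hfix t t2)) hg
    refine mem_pres_of_e hF Φ fun r (hr : r ≤ k + 1) i hi => ?_
    rcases Nat.lt_or_ge r (k + 1) with hrk | hrk
    · exact hpk r (show r ≤ k by omega) _ (Φ.e_mem_low hF hi)
    · obtain rfl : r = k + 1 := by omega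
      rcases Nat.lt_succ_iff_lt_or_eq.1 hi with hlt | he
      · exact Φ.low_mono hF (Nat.le_succ k) (hpk k (show k ≤ k from le_rfl) _ (Φ.e_mem_low hF hlt))
      · obtain rfl : i = κ := Fin.ext he
        obtain ⟨l, hl⟩ := s1.symm (hF := hF)
        rw [suAct_mul, suAct_mul, suAct_mul, ← hy, ← hy₁,
          show y₁ = b • (b⁻¹ • y₁) by rw [smul_smul, mul_inv_cancel₀ hb, one_smul], ← hxy, suAct_smul,
          suAct_inv_suAct, suAct_smul, show Φ.f κ = vec Φ (Sum.inr κ) from rfl, hl, smul_smul]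
        exact Submodule.smul_mem _ _ (Φ.e_mem_low hF (Nat.lt_succ_self k))

/-- The rank one data. -/
noncomputable def rankOne : RankOneData (Cfsg.SU n F q) where
  B := Φ.borel hF
  N := nGroup hF Φ
  S := Set.range (simp' hF Φ)
  X s := ⋃ (j : Fin m) (_ : simp' hF Φ j = s), Xset hF Φ j
  P s := ⨆ (j : Fin m) (_ : simp' hF Φ j = s), Pj hF Φ j
  sup_eq_top := borel_sup_nGroup hF Φ
  conj_mem g hg t ht := torus_le_borel hF Φ (torus_normalized hF Φ (nGroup_le_mono hF Φ hg)
    (mono_inf_borel hF Φ (nGroup_le_mono hF Φ ht.2) ht.1))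
  subset := by rintro _ ⟨j, rfl⟩; exact simp_mem_nGroup hF Φ j
  sq_mem := by rintro _ ⟨j, rfl⟩; exact torus_le_borel hF Φ (simp_sq_mem hF Φ j)
  inj := by
    rintro _ ⟨i, rfl⟩ _ ⟨j, rfl⟩ h
    have ht := mono_inf_borel hF Φ
      (mul_mem (inv_mem (simp_mem_mono hF Φ i)) (simp_mem_mono hF Φ j)) h
    refine congrArg _ (sigmaIx_injective (Equiv.ext fun a => ?_))
    have h1 := (ht a).trans (hF := hF) (sends_simp hF Φ i a)
    rw [← mul_assoc, mul_inv_cancel, one_mul] at h1
    exact Sends.unique (hF := hF) h1 (sends_simp hF Φ j a)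
  closure_sup := le_antisymm (sup_le le_sup_left inf_le_right)
    (sup_le le_sup_left (le_sup_of_le_right (le_inf (torus_le_borel hF Φ) le_sup_right)))
  X_le := by
    intro s _ x hx
    simp only [Set.mem_iUnion] at hx
    obtain ⟨j, -, hx⟩ := hx
    exact Xset_le hF Φ j hx
  B_le := by
    rintro _ ⟨j, rfl⟩
    exact (borel_le_Pj hF Φ j).trans (le_iSup₂ (f := fun i (_ : simp' hF Φ i = simp' hF Φ j) => Pj hF Φ i) j rfl)
  mem_P := by
    rintro _ ⟨j, rfl⟩
    exact le_iSup₂ (f := fun i (_ : simp' hF Φ i = simp' hF Φ j) => Pj hF Φ i) j rfl (simp_mem_Pj hF Φ j)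
  key := by
    rintro _ ⟨j, rfl⟩ g hg
    have hP : (⨆ (i : Fin m) (_ : simp' hF Φ i = simp' hF Φ j), Pj hF Φ i) ≤ Pj hF Φ j := by
      refine iSup₂_le fun i hi => le_of_eq ?_
      have : sigmaIx i = sigmaIx j := Equiv.ext fun a =>
        Sends.unique (hF := hF) (sends_simp hF Φ i a) (hi ▸ sends_simp hF Φ j a)
      rw [sigmaIx_injective this]
    rcases key hF Φ j (hP hg) with h | ⟨x, hx, c, hc, e⟩
    · exact Or.inl h
    · exact Or.inr ⟨x, Set.mem_iUnion₂.2 ⟨j, rfl, hx⟩, c, hc, e⟩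
  dich := by
    rintro _ ⟨j, rfl⟩ g hg
    have hX : ∀ x, x ∈ (⋃ (i : Fin m) (_ : simp' hF Φ i = simp' hF Φ j), Xset hF Φ i) → x ∈ Xset hF Φ j := by
      intro x hx
      simp only [Set.mem_iUnion] at hx
      obtain ⟨i, hi, hx⟩ := hx
      have : sigmaIx i = sigmaIx j := Equiv.ext fun a =>
        Sends.unique (hF := hF) (sends_simp hF Φ i a) (hi ▸ sends_simp hF Φ j a)
      rwa [sigmaIx_injective this] at hx
    rcases dich hF Φ j ((mono hF Φ).inv_mem (nGroup_le_mono hF Φ hg)) with h | h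
    · exact Or.inl fun x hx => by simpa using h x (hX x hx)
    · exact Or.inr fun x hx => by simpa [mul_inv_rev] using h x (hX x hx)
  moved := by
    rintro _ ⟨j, rfl⟩
    obtain ⟨x, hx, h⟩ := moved hF Φ j
    exact ⟨x, Set.mem_iUnion₂.2 ⟨j, rfl, hx⟩, h⟩

end Cfsg.Agent.UnitaryBN
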