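/-
The Steinberg character of SU_n(q).

* `long_sends` : the representative of the longest element exchanges `e i` and `f i`
* `exists_diag_fix` : `B = U T`
* `exists_steinberg` : irreducible, degree `|U|`, zero on `U - {1}`, trivial on the centre
-/
import Cfsg.Agent.Lib.UnitaryBN.Pair
import Cfsg.Agent.Lib.Unitary.Center

set_option autoImplicit false
set_option linter.unusedSectionVars false

namespace Cfsg.Agent.UnitaryBN

open scoped Matrix
open Cfsg.Agent.Unitary Cfsg.Agent.UFus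

variable {F : Type*} [Field F] [Fintype F] {q n m : ℕ}
variable (hF : Fintype.card F = q ^ 2) (Φ : Frame n F q m)
include hF

theorem strictMono_eq {ψ : Fin m → Fin m} (h : StrictMono ψ) (i : Fin m) : ψ i = i := by
  have h1 : h.orderIsoOfSurjective _ (Finite.injective_iff_surjective.1 h.injective) = OrderIso.refl (Fin m) :=
    Subsingleton.elim _ _
  exact congrArg (fun e : Fin m ≃o Fin m => e i) h1

/-- Descents at every fundamental element force the permutation of `w₀`. -/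
theorem long_sends {g : Cfsg.SU n F q} (hg : g ∈ nGroup hF Φ)
    (h : ∀ j, ∃ x ∈ Xset hF Φ j, g * x * g⁻¹ ∉ Φ.borel hF) (i : Fin m) : Sends Φ g (.inl i) (.inr i) := by
  have hm := nGroup_le_mono hF Φ hg
  choose π hπ using fun i : Fin m => hm (Sum.inl i)
  have hswap : ∀ (j : Fin m) (hj : j.val + 1 < m), pos (π ⟨j.val + 1, hj⟩) < pos (π j) := by
    intro j hj
    by_contra hle
    have hne : π j ≠ π ⟨j.val + 1, hj⟩ := fun e => by
      have := Sends.injective (hF := hF) (hπ j) (e ▸ hπ ⟨j.val + 1, hj⟩)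
      simp [Fin.ext_iff] at this
    have hlt : pos (π j) < pos (π ⟨j.val + 1, hj⟩) :=
      lt_of_le_of_ne (not_lt.1 hle) fun e => hne (pos_injective e)
    obtain ⟨x, hx, hnot⟩ := h j
    unfold Xset at hx
    rw [dif_pos hj] at hx
    obtain ⟨t, ok, rfl⟩ := hx
    refine hnot ?_
    rw [eich_conj]
    refine eich_mem_borel_pair hF Φ hlt (hπ j) ?_ _
    obtain ⟨l, hl⟩ := sends_swap hF Φ hm (hπ ⟨j.val + 1, hj⟩)
    exact ⟨t * l, by
      rw [suAct_smul, show Φ.f ⟨j.val + 1, hj⟩ = vec Φ (Sum.inl ⟨j.val + 1, hj⟩).swap from rfl, hl, smul_smul]⟩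
  have hlast : ∀ j : Fin m, ¬ j.val + 1 < m → m < pos (π j) := by
    intro j hj
    obtain ⟨x, hx, hnot⟩ := h j
    unfold Xset at hx
    rw [dif_neg hj] at hx
    obtain ⟨b, c, ok, rfl⟩ := hx
    rcases hp : π j with a | a
    · exfalso
      refine hnot ?_
      rw [eich_conj]
      refine eich_mem_borel_mid hF Φ a (by have := hπ j; rw [hp] at this; exact this) ⟨b * Cfsg.hermForm n F q (suAct g Φ.u) Φ.u, ?_⟩ _
      rw [suAct_smul, mono_u hF Φ hm, smul_smul, ← mono_u hF Φ hm]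
    · simp [pos]; omega
  have hanti : ∀ (d : ℕ) (j k : Fin m), k.val = j.val + d + 1 → pos (π k) < pos (π j) := by
    intro d
    induction d with
    | zero =>
      intro j k hk
      have := hswap j (by omega)
      rwa [show k = ⟨j.val + 1, by omega⟩ from Fin.ext (by simpa using hk)]
    | succ d ih =>
      intro j k hk
      have h1 := ih j ⟨k.val - 1, by omega⟩ (by simp; omega)
      have h2 := hswap ⟨k.val - 1, by omega⟩ (by simp; omega)
      rw [show (⟨k.val - 1 + 1, by omega⟩ : Fin m) = k from Fin.ext (by simp; omega)] at h2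
      omega
  have hbig : ∀ j : Fin m, m < pos (π j) := by
    intro j
    by_cases hj : j.val + 1 < m
    · have := hanti (m - j.val - 2) j ⟨m - 1, by omega⟩ (by simp; omega)
      have := hlast ⟨m - 1, by omega⟩ (by simp; omega)
      omega
    · exact hlast j hj
  have hinr : ∀ j : Fin m, ∃ a, π j = Sum.inr a := fun j => by
    rcases hp : π j with a | a
    · have := hbig j; rw [hp] at this; simp [pos] at this; omega
    · exact ⟨a, rfl⟩
  choose ψ hψ using hinr
  have hmono : StrictMono ψ := fun j k hjk => by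
    have := hanti (k.val - j.val - 1) j k (by rw [Fin.lt_def] at hjk; omega)
    rw [hψ, hψ] at this
    simp only [pos, Sum.elim_inr] at this
    rw [Fin.lt_def]
    omega
  have := hπ i
  rwa [hψ, strictMono_eq hF hmono] at this

/-- A diagonal element completing an element of the Borel subgroup to a unipotent one. -/
theorem exists_diag_fix {b : Cfsg.SU n F q} (hb : b ∈ Φ.borel hF) :
    ∃ t ∈ torus hF Φ, b * t ∈ Φ.unip hF := by
  classical
  have H := hermForm_isHerm hF n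
  have hb' : Φ.IsBor hF b := hb
  have hbi : Φ.IsBor hF b⁻¹ := (Φ.borel hF).inv_mem hb
  set a : Fin m → F := fun i => Φ.coeffA b⁻¹ i with hadef
  have ha : ∀ i, Φ.coeffA b i * a i = 1 := fun i => Φ.bor_inv_coeff hF hb i
  have ha0 : ∀ i, a i ≠ 0 := fun i h0 => by have := ha i; rw [h0, mul_zero] at this; exact zero_ne_one this
  set β : F := Φ.coeffB b⁻¹ with hβdef
  let f : (Fin n → F) →ₗ[F] (Fin n → F) :=
    { toFun := fun x => (∑ i, (a i * Cfsg.hermForm n F q x (Φ.f i)) • Φ.e i) +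
        (∑ i, (((a i)⁻¹) ^ q * Cfsg.hermForm n F q x (Φ.e i)) • Φ.f i) +
        (β * Cfsg.hermForm n F q x Φ.u) • Φ.u
      map_add' := fun x y => by
        simp only [H.add_left, mul_add, add_smul, Finset.sum_add_distrib]; abel
      map_smul' := fun c x => by
        simp only [H.smul_left, smul_add, Finset.smul_sum, smul_smul, RingHom.id_apply, mul_left_comm c] }
  set M := LinearMap.toMatrix' f with hM
  have hMf : ∀ x, M *ᵥ x = f x := fun x => LinearMap.toMatrix'_mulVec f x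
  have hfe : ∀ i, f (Φ.e i) = a i • Φ.e i := fun i => by
    simp [f, Φ.ef, Φ.ee, Φ.eu]
  have hff : ∀ i, f (Φ.f i) = ((a i)⁻¹) ^ q • Φ.f i := fun i => by
    simp [f, Φ.ff, Φ.fe hF, Φ.fu]
  have hfu : f Φ.u = β • Φ.u := by
    simp [f, Φ.ue hF, Φ.uf hF, mul_smul, Φ.smul_uu hF]
  have hββ : β * β ^ q * Cfsg.hermForm n F q Φ.u Φ.u = Cfsg.hermForm n F q Φ.u Φ.u := by
    have hd := Φ.bor_apply_u hF hbi
    set l := suAct b⁻¹ Φ.u - β • Φ.u with hl
    have h1 := suAct_herm b⁻¹ Φ.u Φ.u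
    rw [show suAct b⁻¹ Φ.u = l + β • Φ.u by rw [hl, sub_add_cancel]] at h1
    have e1 : Cfsg.hermForm n F q Φ.u l = 0 := Φ.herm_low hF hd fun i _ => Φ.ue hF i
    have e2 : Cfsg.hermForm n F q l Φ.u = 0 := hd.2.1
    have e3 : Cfsg.hermForm n F q l l = 0 := Φ.herm_low hF hd fun i _ => hd.1 i
    simp only [H.add_left, H.add_right hF, H.smul_left, H.smul_right, e1, e2, e3, mul_zero, add_zero, zero_add] at h1
    linear_combination h1
  have hu : IsUnitary q M := by
    intro x y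
    rw [hMf, hMf]
    conv_rhs => rw [Φ.decomp hF x, Φ.decomp hF y]
    show Cfsg.hermForm n F q
      ((∑ i, (a i * Cfsg.hermForm n F q x (Φ.f i)) • Φ.e i) +
        (∑ i, (((a i)⁻¹) ^ q * Cfsg.hermForm n F q x (Φ.e i)) • Φ.f i) + (β * Cfsg.hermForm n F q x Φ.u) • Φ.u)
      ((∑ i, (a i * Cfsg.hermForm n F q y (Φ.f i)) • Φ.e i) +
        (∑ i, (((a i)⁻¹) ^ q * Cfsg.hermForm n F q y (Φ.e i)) • Φ.f i) + (β * Cfsg.hermForm n F q y Φ.u) • Φ.u) = _
    simp only [H.add_left, H.add_right hF, H.sum_left, H.sum_right hF, H.smul_left, H.smul_right, Φ.ee, Φ.ef, Φ.ff,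
      Φ.fe hF, Φ.eu, Φ.fu, Φ.ue hF, Φ.uf hF, mul_zero, Finset.sum_const_zero, add_zero, zero_add, mul_ite,
      mul_one, Finset.sum_ite_eq, Finset.sum_ite_eq', Finset.mem_univ, if_true, mul_pow, pow_q_pow_q hF]
    congr 1
    · congr 1 <;> refine Finset.sum_congr rfl fun i _ => ?_
      all_goals
        try simp only [inv_pow]
        field_simp [ha0 i, pow_ne_zero q (ha0 i)]
    · linear_combination (Cfsg.hermForm n F q x Φ.u * Cfsg.hermForm n F q y Φ.u ^ q) * hββ
  set Bm := ((b : Matrix.SpecialLinearGroup (Fin n) F) : Matrix (Fin n) (Fin n) F) with hBm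
  have hact : ∀ x, (Bm * M) *ᵥ x = suAct b (f x) := fun x => by rw [← Matrix.mulVec_mulVec, hMf]; rfl
  have hU : IsUnitary q (Bm * M) := fun x y => by
    rw [← Matrix.mulVec_mulVec, ← Matrix.mulVec_mulVec]
    exact (b.2 (M *ᵥ x) (M *ᵥ y)).trans (hu x y)
  have hUni : Φ.IsUni hF (Bm * M) := by
    refine ⟨fun i => ?_, ?_⟩
    · rw [hact, hfe, suAct_smul, show a i • suAct b (Φ.e i) - Φ.e i =
        a i • (suAct b (Φ.e i) - Φ.coeffA b i • Φ.e i) by
          rw [smul_sub, smul_smul, mul_comm, ha, one_smul]]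
      exact Submodule.smul_mem _ _ (Φ.bor_apply_e hF hb' i)
    · have h1 : (Φ.coeffB b * β) • Φ.u = Φ.u := by
        rw [hβdef, ← Φ.coeffB_mul hF hb' hbi, mul_inv_cancel, Frame.coeffB, suAct_one, Φ.smul_uu hF]
      rw [hact, hfu, suAct_smul, show β • suAct b Φ.u - Φ.u = β • (suAct b Φ.u - Φ.coeffB b • Φ.u) by
          rw [smul_sub, smul_smul, mul_comm, h1]]
      exact Submodule.smul_mem _ _ (Φ.bor_apply_u hF hb')
  have hd : M.det = 1 := by
    have h1 := Φ.uni_det hF hU hUni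
    rw [Matrix.det_mul, hBm, Matrix.SpecialLinearGroup.det_coe, one_mul] at h1
    exact h1
  refine ⟨suOfUnitary M hu hd, ?_, (Φ.mem_unip_iff hF).2 hUni⟩
  rintro (i | i)
  · exact ⟨a i, (hMf _).trans (hfe i)⟩
  · exact ⟨_, (hMf _).trans (hff i)⟩

/-- The centre lies in the torus and meets the radical trivially. -/
theorem center_le_torus (hn : 2 ≤ n) : Subgroup.center (Cfsg.SU n F q) ≤ torus hF Φ := fun g hg a => by
  obtain ⟨z, hz⟩ := (mem_center_SU_iff hF hn g).1 hg
  refine ⟨z, ?_⟩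
  rw [suAct, hz]
  funext i
  rw [Matrix.scalar_apply, Matrix.mulVec_diagonal]
  rfl

theorem center_inf_unip (hn : 2 ≤ n) (hm : 0 < m) {g : Cfsg.SU n F q} (hg : g ∈ Subgroup.center (Cfsg.SU n F q))
    (hU : g ∈ Φ.unip hF) : g = 1 := by
  obtain ⟨z, hz⟩ := (mem_center_SU_iff hF hn g).1 hg
  have hact : ∀ x, suAct g x = z • x := fun x => by
    rw [suAct, hz]; funext i; rw [Matrix.scalar_apply, Matrix.mulVec_diagonal]; rfl
  have h1 := hU.2.1 ⟨0, hm⟩
  rw [Frame.coeffA, hact, (hermForm_isHerm hF n).smul_left, Φ.ef, if_pos rfl, mul_one] at h1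
  refine suAct_ext fun x => ?_
  rw [hact, h1, one_smul, suAct_one]

/-- The Steinberg character of SU. -/
theorem exists_steinberg (hn : 2 ≤ n) : ∃ χ : Cfsg.SU n F q → ℂ, Cfsg.IsIrrCharacter (Cfsg.SU n F q) χ ∧
    χ 1 = (Nat.card (Φ.unip hF) : ℂ) ∧ (∀ u ∈ Φ.unip hF, u ≠ 1 → χ u = 0) ∧
    ∀ z ∈ Subgroup.center (Cfsg.SU n F q), χ z = χ 1 := by
  classical
  have H := hermForm_isHerm hF n
  set D := rankOne hF Φ with hD
  set P := D.pair with hP
  obtain ⟨w, hw⟩ := QuotientGroup.mk_surjective (BN.w0 P)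
  obtain ⟨g₀, hg₀⟩ := w
  have hg₀' : g₀ ∈ nGroup hF Φ := hg₀
  have hsends : ∀ i, Sends Φ g₀ (.inl i) (.inr i) := by
    refine long_sends hF Φ hg₀' fun j => ?_
    have hd := BN.w0_rightDesc P ⟨simp' hF Φ j, j, rfl⟩
    rw [← hw] at hd
    obtain ⟨x, hx, hnot⟩ := D.exists_conj_not_mem ⟨j, rfl⟩ hg₀ hd
    have hx' : x ∈ (⋃ (i : Fin m) (_ : simp' hF Φ i = simp' hF Φ j), Xset hF Φ i) := hx
    simp only [Set.mem_iUnion] at hx'
    obtain ⟨i, hi, hx'⟩ := hx'
    have : sigmaIx i = sigmaIx j := Equiv.ext fun a =>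
      Sends.unique (hF := hF) (sends_simp hF Φ i a) (hi ▸ sends_simp hF Φ j a)
    rw [sigmaIx_injective this] at hx'
    exact ⟨x, hx', hnot⟩
  have hC : g₀ ∈ BN.C P (BN.w0 P) := hw ▸ BN.self_mem_C P hg₀
  have hgen : ∀ b ∈ P.B, ∃ u ∈ Φ.unip hF, (b * g₀)⁻¹ * (u * g₀) ∈ P.B := by
    intro b hb
    obtain ⟨t, ht, htu⟩ := exists_diag_fix hF Φ (show b ∈ Φ.borel hF from hb)
    refine ⟨b * t, htu, torus_le_borel hF Φ ?_⟩
    rw [show (b * g₀)⁻¹ * (b * t * g₀) = g₀⁻¹ * t * g₀⁻¹⁻¹ by group]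
    exact torus_normalized hF Φ ((mono hF Φ).inv_mem (nGroup_le_mono hF Φ hg₀')) ht
  have hfree : ∀ u ∈ Φ.unip hF, g₀⁻¹ * u * g₀ ∈ P.B → u = 1 := by
    intro u hu hB
    have hc : g₀⁻¹ * u * g₀ ∈ Φ.borel hF := hB
    have hmono := nGroup_le_mono hF Φ hg₀'
    have huni := (Φ.mem_unip_iff hF).1 hu
    have hf : ∀ i, suAct u (Φ.f i) = Φ.f i := by
      intro i
      -- `u f i` lies in the span of `f l`, `l ≤ i`
      have hspan : ∀ x ∈ Φ.low hF (i.val + 1), ∀ a : Ix m,
          (∀ l : Fin m, l.val ≤ i.val → a ≠ Sum.inl l) → Cfsg.hermForm n F q (suAct g₀ x) (vec Φ a) = 0 := by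
        intro x hx a ha
        obtain ⟨c, hc'⟩ := (mono hF Φ).inv_mem hmono a
        obtain ⟨l, hl⟩ := hc'
        rw [← suAct_suAct_inv g₀ (vec Φ a), suAct_herm, hl, H.smul_right]
        rcases c with c | c
        · rw [show vec Φ (Sum.inl c) = Φ.e c from rfl, hx.1 c, mul_zero]
        · by_cases hci : c.val ≤ i.val
          · exfalso
            have h2 : Sends Φ g₀⁻¹ a (Sum.inr c) := ⟨l, hl⟩
            have h3 := (hsends c).symm (hF := hF)
            have h4 := sends_swap hF Φ ((mono hF Φ).inv_mem hmono) h3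
            exact ha c hci (by simpa using Sends.injective (hF := hF) h2 (by simpa using h4))
          · rw [show vec Φ (Sum.inr c) = Φ.f c from rfl, hx.2.2 c (by omega), mul_zero]
      obtain ⟨l₀, hl₀⟩ := (hsends i).symm (hF := hF)
      have hcx : suAct (g₀⁻¹ * u * g₀) (suAct g₀⁻¹ (Φ.f i)) ∈ Φ.low hF (i.val + 1) := by
        rw [show Φ.f i = vec Φ (Sum.inr i) from rfl, hl₀]
        exact Φ.bor_low hF hc (Submodule.smul_mem _ _ (Φ.e_mem_low hF (Nat.lt_succ_self _)))
      have he : suAct g₀ (suAct (g₀⁻¹ * u * g₀) (suAct g₀⁻¹ (Φ.f i))) = suAct u (Φ.f i) := by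
        rw [← suAct_mul, ← suAct_mul]; congr 1; group
      rw [← sub_eq_zero]
      have h0 : ∀ a, Cfsg.hermForm n F q (suAct u (Φ.f i) - Φ.f i) (vec Φ a) = 0 := by
        intro a
        rw [H.sub_left, sub_eq_zero]
        by_cases ha : ∃ l : Fin m, l.val ≤ i.val ∧ a = Sum.inl l
        · obtain ⟨l, hl, rfl⟩ := ha
          exact Φ.herm_uni hF (fun x y => u.2 x y) huni l fun l' hl' => by
            rw [Φ.fe hF, if_neg (fun e => by subst e; omega)]
        · push Not at ha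
          rw [← he, hspan _ hcx a ha, show Φ.f i = vec Φ (Sum.inr i) from rfl, herm_vec hF Φ, if_neg]
          intro e
          exact ha i le_rfl (by simpa using e)
      have hu0 : Cfsg.hermForm n F q (suAct u (Φ.f i) - Φ.f i) Φ.u = 0 := by
        rw [H.sub_left, Φ.fu, sub_zero, ← he, ← suAct_suAct_inv g₀ Φ.u, suAct_herm,
          mono_u hF Φ ((mono hF Φ).inv_mem hmono), H.smul_right, hcx.2.1, mul_zero]
      rw [eq_smul_u hF Φ h0, hu0, zero_smul]
    have hfixe : ∀ k, suAct u (Φ.e k) = Φ.e k := fun k => Φ.apply_e_eq hF hu k fun l _ => hf l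
    have hu' : suAct u Φ.u = Φ.u := by
      have h1 := huni.2
      refine sub_eq_zero.1 (Φ.eq_zero_of_low_zero hF ⟨h1.1, h1.2.1, fun l _ => ?_⟩)
      show Cfsg.hermForm n F q (suAct u Φ.u - Φ.u) (Φ.f l) = 0
      have e := suAct_herm u Φ.u (Φ.f l)
      rw [hf l] at e
      rw [H.sub_left, e, sub_self]
    refine suAct_ext fun x => ?_
    rw [suAct_one, Φ.decomp hF x]
    have hsum : ∀ (c : Fin m → F) (v : Fin m → (Fin n → F)), (∀ l, suAct u (v l) = v l) →
        suAct u (∑ l, c l • v l) = ∑ l, c l • v l := fun c v hv => by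
      simp only [suAct, Matrix.mulVec_sum, Matrix.mulVec_smul]
      exact Finset.sum_congr rfl fun l _ => congrArg _ (hv l)
    rw [suAct_add, suAct_add, hsum _ _ hfixe, hsum _ _ hf, suAct_smul, hu']
  obtain ⟨h1, h2⟩ := BN.St_of_regular P (Φ.unip hF) (Φ.unip_le_borel hF) hC hgen hfree
  refine ⟨BN.St P, BN.isIrrCharacter_St P, h1, h2, fun z hz => ?_⟩
  simp only [BN.St]
  refine Finset.sum_congr rfl fun A _ => ?_
  congr 1
  simp only [Cfsg.fixedPointCharacter]
  congr 1
  refine Nat.card_congr (Equiv.subtypeEquivRight fun x => ?_)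
  show z • x = x ↔ (1 : Cfsg.SU n F q) • x = x
  rw [one_smul]
  refine iff_of_true ?_ rfl
  induction x using QuotientGroup.induction_on with
  | H g =>
    rw [MulAction.Quotient.smul_coe, smul_eq_mul, (Subgroup.mem_center_iff.1 hz g).symm]
    exact QuotientGroup.mk_mul_of_mem g (BN.le_parabolic _ _ (torus_le_borel hF Φ (center_le_torus hF Φ hn hz)))

end Cfsg.Agent.UnitaryBN
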